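/-
Solvable transitive groups containing a full cycle of odd prime power length `p ^ e`
respect the residues modulo `p` of the cycle positions, acting on them by translations
for elements of `p`-power order.
-/
import Mathlib

set_option autoImplicit false

namespace Cfsg.Agent.AltPPair

open Equiv
open scoped commutatorElement

lemma lt_pow_pred {p e : ℕ} (hp3 : 3 ≤ p) (he : 2 ≤ e) : e + 1 ≤ p ^ (e - 1) := by
  induction e, he using Nat.le_induction with
  | base => simpa using hp3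
  | succ n hn ih =>
    have h : n + 1 - 1 = (n - 1) + 1 := by omega
    rw [h, pow_succ]
    calc n + 1 + 1 ≤ (n + 1) * 3 := by omega
      _ ≤ p ^ (n - 1) * p := Nat.mul_le_mul ih hp3

section EndLemmas

variable {p : ℕ} [Fact p.Prime] {M : Type*} [AddCommGroup M] [Module (ZMod p) M] [Finite M]

lemma finrank_eq_of_card {e : ℕ} (hcard : Nat.card M = p ^ e) :
    Module.finrank (ZMod p) M = e := by
  have : FiniteDimensional (ZMod p) M := Module.Finite.of_finite
  have h := Module.natCard_eq_pow_finrank (K := ZMod p) (V := M)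
  rw [hcard, Nat.card_zmod] at h
  exact (Nat.pow_right_injective (Fact.out : p.Prime).two_le h).symm

lemma sub_one_pow_finrank_eq_zero (L : Module.End (ZMod p) M) {k : ℕ} (hL : L ^ (p ^ k) = 1) :
    (L - 1) ^ Module.finrank (ZMod p) M = 0 := by
  have : FiniteDimensional (ZMod p) M := Module.Finite.of_finite
  have hpoly : ((Polynomial.X : Polynomial (ZMod p)) - 1) ^ (p ^ k) = Polynomial.X ^ (p ^ k) - 1 := by
    rw [sub_pow_char_pow, one_pow]
  have h := congrArg (Polynomial.aeval L) hpoly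
  simp only [map_pow, map_sub, Polynomial.aeval_X, map_one, hL, sub_self] at h
  have hn : IsNilpotent (L - 1) := ⟨p ^ k, h⟩
  have h2 := LinearMap.aeval_self_charpoly (L - 1)
  rwa [IsNilpotent.charpoly_eq_X_pow_finrank hn, map_pow, Polynomial.aeval_X] at h2

lemma geom_sum_eq_zero {e : ℕ} (hp3 : 3 ≤ p) (he : 2 ≤ e) (hcard : Nat.card M = p ^ e)
    (L : Module.End (ZMod p) M) {k : ℕ} (hL : L ^ (p ^ k) = 1) :
    ∑ i ∈ Finset.range (p ^ (e - 1)), L ^ i = 0 := by
  set q := p ^ (e - 1) with hq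
  have hq1 : 1 ≤ q := Nat.one_le_pow _ _ (by omega)
  have hpoly : (∑ i ∈ Finset.range q, (Polynomial.X : Polynomial (ZMod p)) ^ i)
      = (Polynomial.X - 1) ^ (q - 1) := by
    have hX : ((Polynomial.X : Polynomial (ZMod p)) - 1) ≠ 0 := by
      simpa using Polynomial.X_sub_C_ne_zero (1 : ZMod p)
    apply mul_right_cancel₀ hX
    rw [geom_sum_mul, ← pow_succ, Nat.sub_add_cancel hq1, hq, sub_pow_char_pow, one_pow]
  have h := congrArg (Polynomial.aeval L) hpoly
  simp only [map_sum, map_pow, map_sub, Polynomial.aeval_X, map_one] at h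
  rw [h]
  refine pow_eq_zero_of_le ?_ (sub_one_pow_finrank_eq_zero L hL)
  rw [finrank_eq_of_card hcard]
  have := lt_pow_pred hp3 he
  rw [← hq] at this
  omega

end EndLemmas

section MulAutLemmas

variable {p : ℕ} [Fact p.Prime] {A : Type*} [CommGroup A] [Finite A] {G : Type*} [Group G]

/-- The linear map attached to an automorphism of an abelian group of exponent `p`. -/
private noncomputable def linearHom [Module (ZMod p) (Additive A)] (ψ : G →* MulAut A) :
    G →* Module.End (ZMod p) (Additive A) where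
  toFun g := (MonoidHom.toAdditive (ψ g).toMonoidHom).toZModLinearMap p
  map_one' := by ext a; simp
  map_mul' g h := by ext a; simp

lemma linear_fixes [Module (ZMod p) (Additive A)] (hcard : Nat.card A = p) (ψ : G →* MulAut A)
    {g : G} {k : ℕ} (hg : g ^ (p ^ k) = 1) (a : A) : ψ g a = a := by
  have hcardA : Nat.card (Additive A) = p ^ 1 := by rw [pow_one]; exact hcard
  have h2 := sub_one_pow_finrank_eq_zero (linearHom (p := p) ψ g) (k := k)
    (by rw [← map_pow, hg, map_one])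
  rw [finrank_eq_of_card hcardA, pow_one, sub_eq_zero] at h2
  exact congrArg Additive.toMul (LinearMap.congr_fun h2 (Additive.ofMul a))

lemma linear_prod [Module (ZMod p) (Additive A)] {e : ℕ} (hp3 : 3 ≤ p) (he : 2 ≤ e)
    (hcard : Nat.card A = p ^ e) (ψ : G →* MulAut A) {g : G} {k : ℕ} (hg : g ^ (p ^ k) = 1)
    (a : A) : ∏ i ∈ Finset.range (p ^ (e - 1)), ψ (g ^ i) a = 1 := by
  have hcardA : Nat.card (Additive A) = p ^ e := hcard
  have h2 := LinearMap.congr_fun (geom_sum_eq_zero hp3 he hcardA (linearHom (p := p) ψ g) (k := k)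
    (by rw [← map_pow, hg, map_one])) (Additive.ofMul a)
  rw [LinearMap.sum_apply] at h2
  have h3 := congrArg Additive.toMul h2
  rw [toMul_sum, LinearMap.zero_apply, toMul_zero] at h3
  refine (Finset.prod_congr rfl fun i _ => ?_).trans h3
  rw [← map_pow]
  rfl

lemma fixes_of_card_prime (hexp : ∀ a : A, a ^ p = 1) (hcard : Nat.card A = p) (ψ : G →* MulAut A)
    {g : G} {k : ℕ} (hg : g ^ (p ^ k) = 1) (a : A) : ψ g a = a :=
  @linear_fixes p _ A _ _ G _ (AddCommGroup.zmodModule fun b : Additive A =>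
    Additive.toMul.injective (hexp (Additive.toMul b))) hcard ψ g k hg a

lemma prod_conj_eq_one {e : ℕ} (hp3 : 3 ≤ p) (he : 2 ≤ e) (hexp : ∀ a : A, a ^ p = 1)
    (hcard : Nat.card A = p ^ e) (ψ : G →* MulAut A) {g : G} {k : ℕ} (hg : g ^ (p ^ k) = 1)
    (a : A) : ∏ i ∈ Finset.range (p ^ (e - 1)), ψ (g ^ i) a = 1 :=
  @linear_prod p _ A _ _ G _ (AddCommGroup.zmodModule fun b : Additive A =>
    Additive.toMul.injective (hexp (Additive.toMul b))) e hp3 he hcard ψ g k hg a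

end MulAutLemmas

/-- A nontrivial finite solvable group has a nontrivial normal elementary abelian subgroup. -/
lemma exists_elementary_normal {G : Type*} [Group G] [Finite G] [Group.IsSolvable G]
    (hG : ∃ g : G, g ≠ 1) :
    ∃ (q : ℕ) (N : Subgroup G), q.Prime ∧ N.Normal ∧ N ≠ ⊥ ∧
      (∀ a ∈ N, ∀ b ∈ N, a * b = b * a) ∧ (∀ a ∈ N, a ^ q = 1) := by
  classical
  obtain ⟨n, hn⟩ := (Group.isSolvable_def G).mp inferInstance
  let k := Nat.find (⟨n, hn⟩ : ∃ n, derivedSeries G n = ⊥)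
  have hk : derivedSeries G k = ⊥ := Nat.find_spec (⟨n, hn⟩ : ∃ n, derivedSeries G n = ⊥)
  have hk0 : k ≠ 0 := by
    intro h0
    rw [h0, derivedSeries_zero] at hk
    obtain ⟨g, hg⟩ := hG
    have : g ∈ (⊥ : Subgroup G) := hk ▸ Subgroup.mem_top g
    exact hg (Subgroup.mem_bot.mp this)
  obtain ⟨k', hk'⟩ := Nat.exists_eq_succ_of_ne_zero hk0
  set A := derivedSeries G k' with hA
  have hAne : A ≠ ⊥ := Nat.find_min (⟨n, hn⟩ : ∃ n, derivedSeries G n = ⊥) (by omega)
  have hAcomm : ∀ a ∈ A, ∀ b ∈ A, a * b = b * a := by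
    intro a ha b hb
    have h1 : ⁅a, b⁆ ∈ derivedSeries G k := by
      rw [hk', Nat.succ_eq_add_one, derivedSeries_succ]
      exact Subgroup.commutator_mem_commutator ha hb
    rw [hk, Subgroup.mem_bot, commutatorElement_eq_one_iff_mul_comm] at h1
    exact h1
  have : Nontrivial A := (Subgroup.nontrivial_iff_ne_bot A).mpr hAne
  obtain ⟨q, hq, hqd⟩ := Nat.exists_prime_and_dvd (Finite.one_lt_card (α := A)).ne'
  have : Fact q.Prime := ⟨hq⟩
  obtain ⟨a, ha⟩ := exists_prime_orderOf_dvd_card' q hqd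
  let N : Subgroup G :=
    { carrier := {g | g ∈ A ∧ g ^ q = 1}
      one_mem' := ⟨one_mem _, one_pow _⟩
      mul_mem' := fun {x y} hx hy => ⟨mul_mem hx.1 hy.1, by
        rw [(show Commute x y from hAcomm x hx.1 y hy.1).mul_pow, hx.2, hy.2, one_mul]⟩
      inv_mem' := fun {x} hx => ⟨inv_mem hx.1, by rw [inv_pow, hx.2, inv_one]⟩ }
  refine ⟨q, N, hq, ⟨fun x hx g => ⟨(derivedSeries_normal G k').conj_mem x hx.1 g, ?_⟩⟩, ?_,
    fun x hx y hy => hAcomm x hx.1 y hy.1, fun x hx => hx.2⟩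
  · rw [conj_pow, hx.2]; group
  · intro hbot
    have hmem : (a : G) ∈ N := ⟨a.2, by
      have := pow_orderOf_eq_one a
      rw [ha] at this
      exact_mod_cast congrArg Subtype.val this⟩
    rw [hbot, Subgroup.mem_bot] at hmem
    have : a = 1 := Subtype.ext hmem
    rw [this, orderOf_one] at ha
    exact hq.ne_one ha.symm

lemma modEq_of_pow_apply_eq {α : Type*} {c : Perm α} {x₀ : α} {N : ℕ}
    (hper : ∀ i : ℕ, (c ^ i) x₀ = x₀ ↔ N ∣ i) {a b : ℕ} (h : (c ^ a) x₀ = (c ^ b) x₀) :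
    a ≡ b [MOD N] := by
  wlog hab : a ≤ b with H
  · exact (H hper h.symm (by omega)).symm
  obtain ⟨k, rfl⟩ := Nat.exists_eq_add_of_le hab
  rw [pow_add, Perm.mul_apply] at h
  have := (hper k).mp ((c ^ a).injective h).symm
  exact ((Nat.modEq_iff_dvd' (Nat.le_add_right a k)).mpr (by simpa using this))

universe v

theorem crit {p : ℕ} [Fact p.Prime] (hp3 : 3 ≤ p) :
    ∀ e : ℕ, 1 ≤ e → ∀ {α : Type v} (G : Subgroup (Perm α)), Group.IsSolvable G →
      ∀ (c : Perm α), c ∈ G → ∀ x₀ : α, (∀ x, ∃ i : ℕ, (c ^ i) x₀ = x) →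
      (∀ i : ℕ, (c ^ i) x₀ = x₀ ↔ p ^ e ∣ i) →
      ∀ (d : Perm α), d ∈ G → (∃ k : ℕ, d ^ (p ^ k) = 1) →
      ∃ δ : ℕ, ∀ i j : ℕ, d ((c ^ i) x₀) = (c ^ j) x₀ → (j : ZMod p) = i + δ := by
  intro e
  induction e using Nat.strong_induction_on with
  | _ e ih =>
  intro he α G hsolv c hc x₀ htrans hper d hd hdp
  classical
  have hpp := (Fact.out : p.Prime)
  have hα : Finite α := by
    refine Finite.of_surjective (fun i : Fin (p ^ e) => (c ^ (i : ℕ)) x₀) fun x => ?_
    obtain ⟨i, hi⟩ := htrans x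
    refine ⟨⟨i % p ^ e, Nat.mod_lt _ (pow_pos hpp.pos e)⟩, ?_⟩
    rw [← hi]
    show (c ^ (i % p ^ e)) x₀ = _
    conv_rhs => rw [← Nat.mod_add_div i (p ^ e), pow_add, Perm.mul_apply,
      (hper _).mpr (dvd_mul_right _ _)]
  have hGfin : Finite G := inferInstance
  have hce : (⟨c, hc⟩ : G) ≠ 1 := by
    intro h
    have h1 : (c ^ 1) x₀ = x₀ := by
      have : c = 1 := congrArg Subtype.val h
      simp [this]
    have h2 := Nat.le_of_dvd one_pos ((hper 1).mp h1)
    have : 3 ≤ p ^ e := le_trans hp3 (Nat.le_self_pow (by omega) p)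
    omega
  obtain ⟨q, N, hq, hNn, hNne, hNcomm, hNexp⟩ := exists_elementary_normal (G := G) ⟨_, hce⟩
  have hpow : ∀ i : ℕ, ((⟨c, hc⟩ : G) ^ i : G).1 = c ^ i := fun i => rfl
  -- the relation of lying in the same `N`-orbit
  let r : α → α → Prop := fun x y => ∃ ν ∈ N, (ν : Perm α) x = y
  have r_refl : ∀ x, r x x := fun x => ⟨1, one_mem _, rfl⟩
  have r_symm : ∀ {x y}, r x y → r y x := by
    rintro x y ⟨ν, hν, rfl⟩
    refine ⟨ν⁻¹, inv_mem hν, ?_⟩
    simp
  have r_trans : ∀ {x y z}, r x y → r y z → r x z := by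
    rintro x y z ⟨ν, hν, rfl⟩ ⟨μ, hμ, rfl⟩
    exact ⟨μ * ν, mul_mem hμ hν, rfl⟩
  have r_map : ∀ (g : G) {x y}, r x y → r ((g : Perm α) x) ((g : Perm α) y) := by
    rintro g x y ⟨ν, hν, rfl⟩
    refine ⟨g * ν * g⁻¹, hNn.conj_mem ν hν g, ?_⟩
    simp [Perm.mul_apply]
  let P : ℕ → Prop := fun i => r x₀ ((c ^ i) x₀)
  have P_add : ∀ a b, P a → P b → P (a + b) := by
    intro a b ha hb
    refine r_trans ha ?_
    have := r_map ((⟨c, hc⟩ : G) ^ a) hb
    rwa [hpow, ← Perm.mul_apply, ← pow_add] at this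
  have P_cancel : ∀ a b, P a → P (a + b) → P b := by
    intro a b ha hab
    have := r_map ((⟨c, hc⟩ : G) ^ b) ha
    rw [hpow, ← Perm.mul_apply, ← pow_add, add_comm] at this
    exact r_trans hab (r_symm this)
  have P_pe : P (p ^ e) := by
    show r x₀ _
    rw [(hper _).mpr dvd_rfl]
    exact r_refl _
  have hex : ∃ m, 0 < m ∧ P m := ⟨p ^ e, pow_pos hpp.pos e, P_pe⟩
  set m := Nat.find hex with hm
  obtain ⟨hm0, hPm⟩ := Nat.find_spec hex
  rw [← hm] at hm0 hPm
  have P_mul : ∀ k, P (m * k) := by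
    intro k
    induction k with
    | zero => exact ⟨1, one_mem _, by simp⟩
    | succ k ihk => exact P_add _ _ ihk hPm
  have P_iff : ∀ i, P i ↔ m ∣ i := by
    intro i
    refine ⟨fun hi => ?_, fun ⟨k, hk⟩ => hk ▸ P_mul k⟩
    apply Nat.dvd_of_mod_eq_zero
    by_contra hne
    have h1 : P (i % m) := P_cancel (m * (i / m)) _ (P_mul _) (by
      rw [Nat.div_add_mod]; exact hi)
    exact Nat.find_min hex (Nat.mod_lt i hm0) ⟨Nat.pos_of_ne_zero hne, h1⟩
  obtain ⟨j, hje, hmj⟩ := (Nat.dvd_prime_pow hpp).mp ((P_iff _).mp P_pe)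
  have hjlt : j < e := by
    refine lt_of_le_of_ne hje fun h => hNne ?_
    rw [Subgroup.eq_bot_iff_forall]
    have hfix0 : ∀ ν ∈ N, (ν : Perm α) x₀ = x₀ := by
      intro ν hν
      obtain ⟨i, hi⟩ := htrans ((ν : Perm α) x₀)
      have h1 : P i := ⟨ν, hν, hi.symm⟩
      rw [P_iff, hmj, h] at h1
      rw [← hi]
      exact (hper i).mpr h1
    intro ν hν
    apply Subtype.ext
    refine Equiv.ext fun x => ?_
    obtain ⟨i, rfl⟩ := htrans x
    have h2 := hfix0 _ (hNn.conj_mem ν hν ((⟨c, hc⟩ : G) ^ i)⁻¹)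
    simp only [inv_inv, Subgroup.coe_mul, InvMemClass.coe_inv, hpow, Perm.mul_apply] at h2
    have h3 := congrArg (c ^ i) h2
    simpa using h3
  rcases Nat.eq_zero_or_pos j with hj0 | hjpos
  swap
  · -- pass to the space of `N`-orbits
    let s : Setoid α := ⟨r, r_refl, r_symm, r_trans⟩
    let act : G → Perm (Quotient s) := fun g =>
      { toFun := Quotient.map (g : Perm α) fun _ _ h => r_map g h
        invFun := Quotient.map ((g⁻¹ : G) : Perm α) fun _ _ h => r_map g⁻¹ h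
        left_inv := fun a => Quotient.inductionOn a fun x => by simp
        right_inv := fun a => Quotient.inductionOn a fun x => by simp }
    let ρ : G →* Perm (Quotient s) :=
      { toFun := act
        map_one' := Equiv.ext fun a => Quotient.inductionOn a fun x => rfl
        map_mul' := fun g h => Equiv.ext fun a => Quotient.inductionOn a fun x => rfl }
    have hρ : ∀ (g : G) (x : α), ρ g (Quotient.mk s x) = Quotient.mk s ((g : Perm α) x) :=
      fun g x => rfl
    have hρc : ∀ i : ℕ, ((ρ ⟨c, hc⟩) ^ i) (Quotient.mk s x₀) = Quotient.mk s ((c ^ i) x₀) := by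
      intro i
      rw [← map_pow, hρ]
      rfl
    have hsr : Group.IsSolvable ρ.range :=
      Group.isSolvable_of_surjective ρ.rangeRestrict_surjective
    obtain ⟨δ, hδ⟩ := ih j hjlt hjpos ρ.range hsr (ρ ⟨c, hc⟩) ⟨_, rfl⟩ (Quotient.mk s x₀)
      (fun a => Quotient.inductionOn a fun x => by
        obtain ⟨i, hi⟩ := htrans x
        exact ⟨i, by rw [hρc, hi]⟩)
      (fun i => by
        rw [hρc, ← hmj, ← P_iff]
        exact ⟨fun h => r_symm (Quotient.exact h), fun h => Quotient.sound (r_symm h)⟩)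
      (ρ ⟨d, hd⟩) ⟨_, rfl⟩ (by
        obtain ⟨k, hk⟩ := hdp
        exact ⟨k, by rw [← map_pow, show (⟨d, hd⟩ : G) ^ (p ^ k) = 1 from Subtype.ext hk,
          map_one]⟩)
    refine ⟨δ, fun i i' h => hδ i i' ?_⟩
    rw [hρc, hρc, hρ]
    exact congrArg (Quotient.mk s) h
  -- `N` is transitive, hence regular
  have hNtrans : ∀ x, ∃ ν ∈ N, (ν : Perm α) x₀ = x := by
    intro x
    obtain ⟨i, rfl⟩ := htrans x
    exact (P_iff i).mpr (by rw [hmj, hj0, pow_zero]; exact one_dvd _)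
  have hNreg : ∀ ν ∈ N, (ν : Perm α) x₀ = x₀ → ν = 1 := by
    intro ν hν h
    apply Subtype.ext
    refine Equiv.ext fun x => ?_
    obtain ⟨μ, hμ, rfl⟩ := hNtrans x
    have := congrArg (fun g : G => (g : Perm α) x₀) (hNcomm ν hν μ hμ)
    simpa [Perm.mul_apply, h] using this
  have hcard : Nat.card N = p ^ e := by
    have h1 : Nat.card N = Nat.card α := by
      refine Nat.card_congr (Equiv.ofBijective (fun ν : N => ((ν : G) : Perm α) x₀) ⟨?_, ?_⟩)
      · intro a b hab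
        apply Subtype.ext
        have hab' : ((a : G) : Perm α) x₀ = ((b : G) : Perm α) x₀ := hab
        have := hNreg ((b : G)⁻¹ * a) (mul_mem (inv_mem b.2) a.2) (by
          simp [Perm.mul_apply, hab'])
        exact (inv_mul_eq_one.mp this).symm
      · intro x
        obtain ⟨ν, hν, h⟩ := hNtrans x
        exact ⟨⟨ν, hν⟩, h⟩
    rw [h1]
    refine (Nat.card_congr (Equiv.ofBijective (fun i : Fin (p ^ e) => (c ^ (i : ℕ)) x₀)
      ⟨?_, ?_⟩)).symm.trans (Nat.card_fin _)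
    · intro a b hab
      exact Fin.ext (Nat.ModEq.eq_of_lt_of_lt (modEq_of_pow_apply_eq hper hab) a.2 b.2)
    · intro x
      obtain ⟨i, hi⟩ := htrans x
      refine ⟨⟨i % p ^ e, Nat.mod_lt _ (pow_pos hpp.pos e)⟩, ?_⟩
      show (c ^ (i % p ^ e)) x₀ = x
      rw [← hi]
      conv_rhs => rw [← Nat.mod_add_div i (p ^ e), pow_add, Perm.mul_apply,
        (hper _).mpr (dvd_mul_right _ _)]
  have hqp : q = p := by
    obtain ⟨ν, hν⟩ : ∃ ν : N, ν ≠ 1 := by
      have : Nontrivial N := (Subgroup.nontrivial_iff_ne_bot N).mpr hNne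
      exact exists_ne 1
    have hord : orderOf ν = q :=
      have : Fact q.Prime := ⟨hq⟩
      orderOf_eq_prime (Subtype.ext (hNexp _ ν.2)) hν
    have := orderOf_dvd_natCard ν
    rw [hord, hcard] at this
    exact (Nat.prime_dvd_prime_iff_eq hq hpp).mp (hq.dvd_of_dvd_pow this)
  let iN : CommGroup N :=
    { (inferInstance : Group N) with
      mul_comm := fun a b => Subtype.ext (hNcomm _ a.2 _ b.2) }
  let ψ : G →* MulAut N := MulAut.conjNormal
  have hψ : ∀ (g : G) (a : N), ((ψ g a : N) : G) = g * (a : G) * g⁻¹ :=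
    fun g a => MulAut.conjNormal_apply g a
  have hexpN : ∀ a : N, a ^ p = 1 := fun a => Subtype.ext (by simpa [hqp] using hNexp _ a.2)
  have hcpe : c ^ (p ^ e) = 1 := by
    refine Equiv.ext fun x => ?_
    obtain ⟨i, rfl⟩ := htrans x
    rw [← Perm.mul_apply, ← pow_add, add_comm, pow_add, Perm.mul_apply, (hper _).mpr dvd_rfl]
    rfl
  obtain ⟨ν₀, hν₀, hν₀x⟩ := hNtrans (c x₀)
  have hS : ∀ i : ℕ, (c ^ i) x₀ =
      ((∏ k ∈ Finset.range i, ψ ((⟨c, hc⟩ : G) ^ k) ⟨ν₀, hν₀⟩ : N) : G).1 x₀ := by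
    intro i
    induction i with
    | zero => simp
    | succ i ihi =>
      rw [pow_succ', Perm.mul_apply, ihi, Finset.prod_range_succ']
      simp only [pow_succ', map_mul, MulAut.mul_apply, ← map_prod, pow_zero, map_one, MulAut.one_apply,
        Subgroup.coe_mul, hψ, Perm.mul_apply]
      simp [hν₀x]
  have he1 : e = 1 := by
    by_contra hne
    have he2 : 2 ≤ e := by omega
    have h0 := hS (p ^ (e - 1))
    rw [prod_conj_eq_one hp3 he2 hexpN hcard ψ (g := (⟨c, hc⟩ : G)) (k := e) (Subtype.ext hcpe)] at h0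
    have h1 := (Nat.pow_dvd_pow_iff_le_right hpp.one_lt).mp ((hper _).mp (by simpa using h0))
    omega
  have hcent : ∀ (g : G), (∃ k, g ^ (p ^ k) = 1) → ∀ ν ∈ N, g * ν = ν * g := by
    rintro g ⟨k, hk⟩ ν hν
    have h3 := congrArg (fun a : N => (a : G))
      (fixes_of_card_prime hexpN (by rw [hcard, he1, pow_one]) ψ hk ⟨ν, hν⟩)
    simp only [hψ] at h3
    exact mul_inv_eq_iff_eq_mul.mp h3
  obtain ⟨δ, hδ⟩ := htrans (d x₀)
  refine ⟨δ, fun i i' h => ?_⟩
  obtain ⟨ν, hν, hνx⟩ := hNtrans ((c ^ i) x₀)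
  have h1 : (c ^ (i + δ)) x₀ = (c ^ i') x₀ := by
    have e1 : d ((ν : Perm α) x₀) = (ν : Perm α) (d x₀) := by
      have := congrArg (fun g : G => (g : Perm α) x₀)
        (hcent ⟨d, hd⟩ (by obtain ⟨k, hk⟩ := hdp; exact ⟨k, Subtype.ext hk⟩) ν hν)
      simpa [Perm.mul_apply] using this
    have e2 : (c ^ δ) ((ν : Perm α) x₀) = (ν : Perm α) ((c ^ δ) x₀) := by
      have := congrArg (fun g : G => (g : Perm α) x₀)
        (hcent ((⟨c, hc⟩ : G) ^ δ) ⟨e, by
          rw [← pow_mul, mul_comm, pow_mul, show (⟨c, hc⟩ : G) ^ (p ^ e) = 1 from Subtype.ext hcpe,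
            one_pow]⟩ ν hν)
      simpa [Perm.mul_apply, hpow] using this
    rw [← h, ← hνx, e1, ← hδ, ← e2, hνx, ← Perm.mul_apply, ← pow_add, add_comm]
  have h2 := (modEq_of_pow_apply_eq hper h1).of_dvd (dvd_pow_self p (by omega : e ≠ 0))
  rw [← ZMod.natCast_eq_natCast_iff] at h2
  rw [← h2, Nat.cast_add]

/-- The criterion for non-solvability used for the pairs below. -/
theorem not_solvable_of_shift {p : ℕ} [Fact p.Prime] (hp3 : 3 ≤ p) {e : ℕ} (he : 1 ≤ e)
    {α : Type v} (c d : Perm α) (x₀ : α) (htrans : ∀ x, ∃ i : ℕ, (c ^ i) x₀ = x)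
    (hper : ∀ i : ℕ, (c ^ i) x₀ = x₀ ↔ p ^ e ∣ i) (hdp : ∃ k : ℕ, d ^ (p ^ k) = 1)
    {i₁ j₁ i₂ j₂ : ℕ} (h₁ : d ((c ^ i₁) x₀) = (c ^ j₁) x₀) (h₂ : d ((c ^ i₂) x₀) = (c ^ j₂) x₀)
    (hne : (j₁ : ZMod p) + i₂ ≠ j₂ + i₁) :
    ¬ Group.IsSolvable ↥(Subgroup.closure ({c, d} : Set (Perm α))) := by
  intro hsolv
  obtain ⟨δ, hδ⟩ := crit hp3 e he _ hsolv c (Subgroup.subset_closure (Or.inl rfl)) x₀ htrans hper d
    (Subgroup.subset_closure (Or.inr rfl)) hdp
  apply hne
  rw [hδ _ _ h₁, hδ _ _ h₂]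
  ring

end Cfsg.Agent.AltPPair
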