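/-
Arrangements of an element of `p`-power order relative to a full cycle of length `p ^ e`
such that the pair generates a non-solvable group and has product of non-`p`-power order.
-/
import Mathlib
import Cfsg.Agent.AltPPair.Criterion

set_option autoImplicit false

namespace Cfsg.Agent.AltPPair

open Equiv
open Fin.NatCast

/-- The two requirements on a pair of elements. -/
def Good (p : ℕ) {G : Type*} [Group G] (x y : G) : Prop :=
  (¬ ∃ k : ℕ, orderOf (x * y) = p ^ k) ∧ ¬ Group.IsSolvable ↥(Subgroup.closure ({x, y} : Set G))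

lemma Good.symm {p : ℕ} {G : Type*} [Group G] {x y : G} (h : Good p x y) : Good p y x := by
  refine ⟨?_, ?_⟩
  · have : orderOf (y * x) = orderOf (x * y) :=
      (SemiconjBy.orderOf_eq x (show SemiconjBy x (y * x) (x * y) by
        simp [SemiconjBy, mul_assoc]))
    rw [this]; exact h.1
  · rw [Set.pair_comm]; exact h.2

lemma not_ppow_of_prime {p r : ℕ} (hp : p.Prime) (hr : r.Prime) (hne : r ≠ p) :
    ¬ ∃ k : ℕ, r = p ^ k := by
  rintro ⟨k, hk⟩
  exact hne ((Nat.prime_dvd_prime_iff_eq hr hp).mp (hr.dvd_of_dvd_pow (dvd_of_eq hk)))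

variable {α : Type*} [DecidableEq α]

lemma formPerm_disjoint {l l' : List α} (h : ∀ x ∈ l, x ∉ l') :
    Perm.Disjoint l.formPerm l'.formPerm := by
  intro x
  by_cases hx : x ∈ l
  · exact Or.inr (List.formPerm_apply_of_notMem (h x hx))
  · exact Or.inl (List.formPerm_apply_of_notMem hx)

lemma formPerm_append (A B : List α) (a b : α) (hn : ((A ++ [a]) ++ (B ++ [b])).Nodup) :
    ((A ++ [a]) ++ (B ++ [b])).formPerm =
      (A ++ [a]).formPerm * (B ++ [b]).formPerm * swap a b := by
  induction A with
  | nil =>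
    simp only [List.nil_append, List.cons_append, List.formPerm_singleton, one_mul] at hn ⊢
    have h := List.formPerm_rotate_one (a :: (B ++ [b])) hn
    rw [List.rotate_cons_succ, List.rotate_zero] at h
    rw [← h]
    have : B ++ [b] ++ [a] = B ++ [b, a] := by simp
    rw [this, List.formPerm_append_pair, swap_comm b a]
  | cons x A ih =>
    obtain ⟨y, l, hl⟩ : ∃ y l, A ++ [a] = y :: l := by cases A <;> simp
    have hn' : ((A ++ [a]) ++ (B ++ [b])).Nodup := by
      simp only [List.cons_append, List.nodup_cons] at hn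
      exact hn.2
    have ih' := ih hn'
    simp only [List.cons_append, hl] at ih' ⊢
    rw [List.formPerm_cons_cons, ih', List.formPerm_cons_cons]
    simp only [mul_assoc]

/-- The square of a cycle of odd length as a cycle with prescribed last entry. -/
lemma exists_sq_list [Fintype α] (A : List α) (a : α) (hn : (A ++ [a]).Nodup)
    (hodd : Odd (A ++ [a]).length) :
    ∃ A' : List α, (A' ++ [a]).Perm (A ++ [a]) ∧
      (A' ++ [a]).formPerm = (A ++ [a]).formPerm ^ 2 := by
  rcases eq_or_ne A [] with rfl | hA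
  · exact ⟨[], List.Perm.refl _, by simp⟩
  have hlen : 2 ≤ (A ++ [a]).length := by
    have := List.length_pos_of_ne_nil hA
    simp only [List.length_append, List.length_singleton]
    omega
  have hne : ∀ x : α, A ++ [a] ≠ [x] := fun x h => by
    rw [h] at hlen
    simp at hlen
  set σ := (A ++ [a]).formPerm with hσ
  have hcyc : σ.IsCycle := List.isCycle_formPerm hn hlen
  have hsupp : σ.support = (A ++ [a]).toFinset := List.support_formPerm_of_nodup _ hn hne
  have hord : orderOf σ = (A ++ [a]).length := by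
    rw [hcyc.orderOf, hsupp, List.toFinset_card_of_nodup hn]
  have hcop : Nat.Coprime 2 (orderOf σ) := by rw [hord]; exact Nat.coprime_two_left.mpr hodd
  have hsupp2 : (σ ^ 2).support = σ.support := Perm.support_pow_coprime hcop
  have hcyc2 : (σ ^ 2).IsCycle := by
    rw [hcyc.pow_iff]
    exact hcop
  have ha : a ∈ (σ ^ 2).support := by simp [hsupp2, hsupp]
  set l := (σ ^ 2).toList a with hl
  have hform : l.formPerm = σ ^ 2 := by
    rw [hl, Perm.formPerm_toList, hcyc2.cycleOf_eq (Perm.mem_support.mp ha)]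
  obtain ⟨l', hl'⟩ : ∃ l', l = a :: l' := by
    have h2 : 2 ≤ l.length := Perm.two_le_length_toList_iff_mem_support.mpr ha
    have h0 := Perm.toList_getElem_zero _ _ ha
    rcases hc : l with - | ⟨b, l'⟩
    · rw [hc] at h2; simp at h2
    · refine ⟨l', ?_⟩
      rw [hl] at hc
      simp only [hc, List.getElem_cons_zero] at h0
      rw [h0]
  have hnl : (a :: l').Nodup := hl' ▸ Perm.nodup_toList _ _
  refine ⟨l', ?_, ?_⟩
  · rw [List.perm_ext_iff_of_nodup ?_ hn]
    · intro x
      have hx : x ∈ a :: l' ↔ x ∈ A ++ [a] := by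
        rw [← hl', hl, Perm.mem_toList_iff, ← List.mem_toFinset, ← hsupp, ← hsupp2]
        exact ⟨fun h => h.1.mem_support_iff.mp h.2,
          fun h => ⟨hcyc2.sameCycle (Perm.mem_support.mp ha) (Perm.mem_support.mp h), ha⟩⟩
      simpa [or_comm] using hx
    · simp only [List.nodup_cons] at hnl
      exact List.nodup_append.mpr ⟨hnl.2, List.nodup_singleton _, by
        intro x hx y hy
        rw [List.mem_singleton] at hy
        rintro rfl
        exact hnl.1 (hy ▸ hx)⟩
  · rw [← hform, hl']
    have h := List.formPerm_rotate_one (a :: l') hnl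
    rwa [List.rotate_cons_succ, List.rotate_zero] at h

/-- Blocks of odd length merge with a linking cycle into a single cycle. -/
lemma exists_merge [Fintype α] (z : α) : ∀ Bs : List (List α),
    (∀ B ∈ Bs, Odd B.length) → (Bs.flatten ++ [z]).Nodup →
    ∃ ρ : List α, (ρ ++ [z]).Perm (Bs.flatten ++ [z]) ∧
      (Bs.map List.formPerm).prod * (Bs.flatten ++ [z]).formPerm = (ρ ++ [z]).formPerm
  | [], _, _ => ⟨[], List.Perm.refl _, by simp⟩
  | B :: Bs, hodd, hn => by
    have hB : Odd B.length := hodd B (List.mem_cons_self ..)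
    have hB0 : B ≠ [] := by rintro rfl; simp at hB
    obtain ⟨A, a, rfl⟩ : ∃ A a, B = A ++ [a] :=
      ⟨_, _, (List.dropLast_append_getLast hB0).symm⟩
    simp only [List.flatten_cons, List.append_assoc] at hn ⊢
    rw [← List.append_assoc A [a] (Bs.flatten ++ [z])] at hn ⊢
    obtain ⟨hnA, hnR, hdis⟩ := List.nodup_append.mp hn
    obtain ⟨ρ, hρp, hρ⟩ := exists_merge z Bs
      (fun C hC => hodd C (List.mem_cons_of_mem _ hC)) hnR
    obtain ⟨A', hA'p, hA'⟩ := exists_sq_list A a hnA hB
    refine ⟨A' ++ [a] ++ ρ, ?_, ?_⟩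
    · rw [List.append_assoc (A' ++ [a])]
      exact hA'p.append hρp
    · rw [List.append_assoc (A' ++ [a])]
      have hn' : ((A' ++ [a]) ++ (ρ ++ [z])).Nodup := (hA'p.append hρp).nodup_iff.mpr hn
      rw [formPerm_append A' ρ a z hn', hA', ← hρ, formPerm_append A Bs.flatten a z hn,
        List.map_cons, List.prod_cons]
      have hcomm : Commute (A ++ [a]).formPerm (Bs.map List.formPerm).prod := by
        apply Commute.list_prod_right
        intro g hg
        obtain ⟨C, hC, rfl⟩ := List.mem_map.mp hg
        refine (formPerm_disjoint fun x hx hxC => hdis x hx x ?_ rfl).commute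
        exact List.mem_append_left _ (List.mem_flatten.mpr ⟨C, hC, hxC⟩)
      calc (A ++ [a]).formPerm * (Bs.map List.formPerm).prod *
            ((A ++ [a]).formPerm * (Bs.flatten ++ [z]).formPerm * swap a z)
          = (A ++ [a]).formPerm * ((Bs.map List.formPerm).prod * (A ++ [a]).formPerm) *
            ((Bs.flatten ++ [z]).formPerm * swap a z) := by simp only [mul_assoc]
        _ = _ := by rw [← hcomm.eq]; simp only [sq, mul_assoc]

lemma cycleType_prod_blocks [Fintype α] : ∀ Bs : List (List α), Bs.flatten.Nodup →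
    ((Bs.map List.formPerm).prod).cycleType =
      (↑(Bs.map List.length) : Multiset ℕ).filter (2 ≤ ·)
  | [], _ => by simp
  | B :: Bs, hn => by
    simp only [List.flatten_cons] at hn
    obtain ⟨hnB, hnR, hdis⟩ := List.nodup_append.mp hn
    rw [List.map_cons, List.prod_cons, List.map_cons]
    have hd : Perm.Disjoint B.formPerm (Bs.map List.formPerm).prod := by
      apply Perm.disjoint_prod_right
      intro g hg
      obtain ⟨C, hC, rfl⟩ := List.mem_map.mp hg
      exact formPerm_disjoint fun x hx hxC => hdis x hx x (List.mem_flatten.mpr ⟨C, hC, hxC⟩) rfl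
    rw [hd.cycleType_mul, cycleType_prod_blocks Bs hnR, ← Multiset.cons_coe, Multiset.filter_cons]
    congr 1
    by_cases h2 : 2 ≤ B.length
    · rw [if_pos h2, (List.isCycle_formPerm hnB h2).cycleType,
        List.support_formPerm_of_nodup _ hnB (by rintro x rfl; simp at h2),
        List.toFinset_card_of_nodup hnB]
    · rw [if_neg h2, (List.formPerm_eq_one_iff _ hnB).mpr (by omega), Perm.cycleType_one]

omit [DecidableEq α] in
lemma exists_split (l : List α) : ∀ L : List ℕ, L.sum = l.length →
    ∃ Bs : List (List α), Bs.flatten = l ∧ Bs.map List.length = L := by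
  intro L
  induction L generalizing l with
  | nil =>
    intro h
    simp only [List.sum_nil] at h
    exact ⟨[], by simp [List.eq_nil_of_length_eq_zero h.symm]⟩
  | cons b L ih =>
    intro h
    rw [List.sum_cons] at h
    obtain ⟨Bs, h1, h2⟩ := ih (l.drop b) (by rw [List.length_drop]; omega)
    refine ⟨l.take b :: Bs, by simp [h1], ?_⟩
    simp [h2]
    omega

section Full

variable {a : ℕ}

lemma pow_apply_get [NeZero a] (i : ℕ) :
    ((List.finRange a).formPerm ^ i) 0 = (i : Fin a) := by
  have hlen : 0 < (List.finRange a).length := by simpa using NeZero.pos a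
  have h := List.formPerm_pow_apply_getElem (List.finRange a) (List.nodup_finRange a) i 0 hlen
  simp only [List.getElem_finRange, List.length_finRange, Nat.zero_add] at h
  convert h using 1
  · rfl
  · apply Fin.ext
    simp [Fin.val_natCast]

lemma full_trans [NeZero a] (x : Fin a) : ∃ i : ℕ, ((List.finRange a).formPerm ^ i) 0 = x :=
  ⟨x, by rw [pow_apply_get]; simp⟩

lemma full_per [NeZero a] (i : ℕ) : ((List.finRange a).formPerm ^ i) 0 = 0 ↔ a ∣ i := by
  rw [pow_apply_get, Fin.natCast_eq_zero]

/-- A non-full cycle type. -/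
theorem exists_good_proper {p e : ℕ} [Fact p.Prime] (hp3 : 3 ≤ p) (he : 1 ≤ e) (ha : a = p ^ e)
    (M : Multiset ℕ) (hM0 : M ≠ 0) (hM : ∀ b ∈ M, ∃ i, 1 ≤ i ∧ i < e ∧ b = p ^ i)
    (hsum : M.sum ≤ a) :
    ∃ d : Perm (Fin a), d.cycleType = M ∧ Good p (List.finRange a).formPerm d := by
  classical
  have hpp := (Fact.out : p.Prime)
  have : NeZero a := ⟨by rw [ha]; exact (pow_pos hpp.pos e).ne'⟩
  have hM2 : ∀ b ∈ M, 3 ≤ b ∧ p ∣ b ∧ b < a ∧ Odd b := by
    intro b hb
    obtain ⟨i, hi, hie, rfl⟩ := hM b hb
    exact ⟨le_trans hp3 (Nat.le_self_pow (by omega) p), dvd_pow_self p (by omega),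
      ha ▸ Nat.pow_lt_pow_right hpp.one_lt hie, (hpp.odd_of_ne_two (by omega)).pow⟩
  obtain ⟨b, hb⟩ := Multiset.exists_mem_of_ne_zero hM0
  obtain ⟨hb3, hpb, hba, hbodd⟩ := hM2 b hb
  set L : List ℕ := (M.erase b).toList ++ List.replicate (a - M.sum) 1 with hL
  have hMs : b + (M.erase b).sum = M.sum := by rw [← Multiset.sum_cons, Multiset.cons_erase hb]
  have hLsum : L.sum = a - b := by
    rw [hL, List.sum_append, Multiset.sum_toList, List.sum_replicate, smul_eq_mul, mul_one]
    omega
  set l := List.finRange a with hl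
  obtain ⟨Bs, hflat, hlens⟩ := exists_split (l.take (a - b)) L (by simp [hl, hLsum])
  obtain ⟨F, f, hF⟩ : ∃ F f, l.take (a - b) = F ++ [f] :=
    ⟨_, _, (List.dropLast_append_getLast (by simp [hl]; omega)).symm⟩
  obtain ⟨C, z, hC⟩ : ∃ C z, l.drop (a - b) = C ++ [z] :=
    ⟨_, _, (List.dropLast_append_getLast (by simp [hl]; omega)).symm⟩
  have hsplit : l = (F ++ [f]) ++ (C ++ [z]) := by rw [← hF, ← hC, List.take_append_drop]
  have hn : ((F ++ [f]) ++ (C ++ [z])).Nodup := hsplit ▸ List.nodup_finRange a
  obtain ⟨hnF, hnC, hdis⟩ := List.nodup_append.mp hn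
  have hFz : ((F ++ [f]) ++ ([] ++ [z])).Nodup := by
    refine List.nodup_append.mpr ⟨hnF, List.nodup_singleton _, ?_⟩
    intro x hx y hy
    rw [List.nil_append, List.mem_singleton] at hy
    exact hdis x hx y (by simp [hy])
  have hoddL : ∀ B ∈ Bs, Odd B.length := by
    intro B hB
    have : B.length ∈ L := hlens ▸ List.mem_map_of_mem hB
    rw [hL, List.mem_append, Multiset.mem_toList, List.mem_replicate] at this
    rcases this with h | ⟨-, h⟩
    · exact (hM2 _ (Multiset.mem_of_mem_erase h)).2.2.2
    · rw [h]; exact odd_one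
  set D := (Bs.map List.formPerm).prod with hD
  set β := (C ++ [z]).formPerm with hβ
  have hDfix : ∀ x, x ∉ F ++ [f] → D x = x := by
    intro x hx
    have : D ∈ MulAction.stabilizer (Perm (Fin a)) x := by
      apply Subgroup.list_prod_mem
      intro g hg
      obtain ⟨B, hB, rfl⟩ := List.mem_map.mp hg
      exact List.formPerm_apply_of_notMem fun h => hx (by
        rw [← hF, ← hflat]; exact List.mem_flatten.mpr ⟨B, hB, h⟩)
    exact this
  have hdisj : Perm.Disjoint D β := by
    intro x
    by_cases hx : x ∈ F ++ [f]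
    · exact Or.inr (List.formPerm_apply_of_notMem fun h => hdis x hx x h rfl)
    · exact Or.inl (hDfix x hx)
  have hct : (D * β⁻¹).cycleType = M := by
    have h1 : β.cycleType = {b} := by
      have hlenC : (C ++ [z]).length = b := by rw [← hC]; simp [hl]; omega
      rw [hβ, (List.isCycle_formPerm hnC (by omega)).cycleType,
        List.support_formPerm_of_nodup _ hnC (by intro x h; rw [h] at hlenC; simp at hlenC; omega),
        List.toFinset_card_of_nodup hnC, hlenC]
    rw [hdisj.inv_right.cycleType_mul, Perm.cycleType_inv, h1, hD,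
      cycleType_prod_blocks Bs (hflat ▸ hF ▸ hnF), hlens, hL, ← Multiset.coe_add,
      Multiset.coe_toList, Multiset.filter_add, Multiset.filter_eq_self.mpr (fun x hx =>
        le_trans (by norm_num) (hM2 x (Multiset.mem_of_mem_erase hx)).1)]
    have h2 : Multiset.filter (2 ≤ ·) (↑(List.replicate (a - M.sum) 1) : Multiset ℕ) = 0 :=
      Multiset.filter_eq_nil.mpr (fun x hx => by
        rw [Multiset.mem_coe, List.mem_replicate] at hx; omega)
    rw [h2, add_zero, add_comm, Multiset.singleton_add, Multiset.cons_erase hb]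
  refine ⟨D * β⁻¹, hct, ?_⟩
  -- product
  obtain ⟨ρ, hρp, hρ⟩ := exists_merge z Bs hoddL (by
    rw [hflat, hF]; simpa using hFz)
  rw [hflat, hF] at hρp hρ
  have hcd : D * β⁻¹ * l.formPerm = (ρ ++ [z]).formPerm := by
    have hcomm : Commute β⁻¹ (F ++ [f]).formPerm :=
      (formPerm_disjoint fun x hx hx' => hdis x hx x hx' rfl).commute.symm.inv_left
    have h0 : ((F ++ [f]) ++ [z]).formPerm = (F ++ [f]).formPerm * swap f z := by
      have := formPerm_append F [] f z hFz
      simpa using this
    rw [← hρ, ← hD, h0, hsplit, formPerm_append F C f z hn, ← hβ]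
    calc D * β⁻¹ * ((F ++ [f]).formPerm * β * swap f z)
        = D * (β⁻¹ * (F ++ [f]).formPerm) * (β * swap f z) := by simp only [mul_assoc]
      _ = _ := by rw [hcomm.eq]; simp [mul_assoc]
  refine ⟨?_, ?_⟩
  · have hlenρ : (ρ ++ [z]).length = a - b + 1 := by
      rw [hρp.length_eq, List.length_append, ← hF]; simp [hl]
    have hnρ : (ρ ++ [z]).Nodup := hρp.nodup_iff.mpr (by simpa using hFz)
    have hord : orderOf (l.formPerm * (D * β⁻¹)) = a - b + 1 := by
      have : orderOf (l.formPerm * (D * β⁻¹)) = orderOf (D * β⁻¹ * l.formPerm) :=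
        (SemiconjBy.orderOf_eq (D * β⁻¹) (by simp [SemiconjBy, mul_assoc]))
      rw [this, hcd, (List.isCycle_formPerm hnρ (by omega)).orderOf,
        List.support_formPerm_of_nodup _ hnρ (by intro x h; rw [h] at hlenρ; simp at hlenρ; omega),
        List.toFinset_card_of_nodup hnρ, hlenρ]
    rintro ⟨k, hk⟩
    rw [hord] at hk
    rcases Nat.eq_zero_or_pos k with rfl | hk0
    · simp at hk; omega
    · have h1 : p ∣ a - b + 1 := hk ▸ dvd_pow_self p hk0.ne'
      have h2 : p ∣ a - b := Nat.dvd_sub (ha ▸ dvd_pow_self p (by omega)) hpb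
      have := (Nat.dvd_add_right h2).mp h1
      exact hpp.one_lt.ne' (Nat.dvd_one.mp this)
  -- two different shifts
  obtain ⟨B₁, Bs', hBs⟩ : ∃ B₁ Bs', Bs = B₁ :: Bs' := by
    cases Bs with
    | nil => simp [hF] at hflat
    | cons B₁ Bs' => exact ⟨_, _, rfl⟩
  have hget : ∀ i (hi : i < a), l[i]'(by simp [hl]; exact hi) = ((i : ℕ) : Fin a) := by
    intro i hi
    apply Fin.ext
    simp [hl, Fin.val_natCast, Nat.mod_eq_of_lt hi]
  have hcpow : ∀ i : ℕ, (l.formPerm ^ i) 0 = (i : Fin a) := pow_apply_get
  have hA1 : (D * β⁻¹) ((a - b + 1 : ℕ) : Fin a) = ((a - b : ℕ) : Fin a) := by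
    have hlC : (C ++ [z]).length = b := by rw [← hC]; simp [hl]; omega
    have e0 : (C ++ [z])[0]'(by simp) = ((a - b : ℕ) : Fin a) := by
      rw [← hget (a - b) (by omega)]
      simp [← hC]
    have e1 : (C ++ [z])[1]'(by omega) = ((a - b + 1 : ℕ) : Fin a) := by
      rw [← hget (a - b + 1) (by omega)]
      simp [← hC]
    have h := List.formPerm_apply_lt_getElem (C ++ [z]) hnC 0 (by omega)
    rw [Perm.mul_apply, ← e1, show β⁻¹ ((C ++ [z])[1]'(by omega)) = (C ++ [z])[0]'(by simp) from
      Perm.inv_eq_iff_eq.mpr h.symm, e0]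
    apply hDfix
    rw [← hF]
    intro hmem
    exact hdis _ (hF ▸ hmem) _ (e0 ▸ List.getElem_mem _) rfl
  have hB₁l : B₁ <+: l := by
    refine List.IsPrefix.trans ?_ (List.take_prefix (a - b) l)
    rw [← hflat, hBs, List.flatten_cons]
    exact List.prefix_append _ _
  have hB₁n : B₁.Nodup := (List.nodup_finRange a).sublist hB₁l.sublist
  have hB₁odd : Odd B₁.length := hoddL B₁ (hBs ▸ List.mem_cons_self ..)
  have hB₁0 : 0 < B₁.length := hB₁odd.pos
  have e2 : B₁[0] = ((0 : ℕ) : Fin a) := by
    rw [hB₁l.getElem hB₁0]; exact hget 0 (NeZero.pos a)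
  have hA2 : ∃ s : ℕ, s ≤ 1 ∧ (D * β⁻¹) ((0 : ℕ) : Fin a) = (s : Fin a) := by
    have hβfix : β⁻¹ ((0 : ℕ) : Fin a) = ((0 : ℕ) : Fin a) := by
      apply Perm.inv_eq_iff_eq.mpr
      refine (List.formPerm_apply_of_notMem ?_).symm
      intro hmem
      refine hdis _ ?_ _ hmem rfl
      rw [← hF, ← hflat, hBs, List.flatten_cons, ← e2]
      exact List.mem_append_left _ (List.getElem_mem _)
    have hDval : D ((0 : ℕ) : Fin a) = B₁.formPerm ((0 : ℕ) : Fin a) := by
      rw [hD, hBs, List.map_cons, List.prod_cons, Perm.mul_apply]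
      congr 1
      have : (Bs'.map List.formPerm).prod ∈
          MulAction.stabilizer (Perm (Fin a)) ((0 : ℕ) : Fin a) := by
        apply Subgroup.list_prod_mem
        intro g hg
        obtain ⟨B, hB, rfl⟩ := List.mem_map.mp hg
        apply List.formPerm_apply_of_notMem
        intro hmem
        have hnflat : (B₁ :: Bs').flatten.Nodup := by rw [← hBs, hflat]; exact hF ▸ hnF
        rw [List.flatten_cons] at hnflat
        exact (List.nodup_append.mp hnflat).2.2 _ (e2 ▸ List.getElem_mem hB₁0) _
          (List.mem_flatten.mpr ⟨B, hB, hmem⟩) rfl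
      exact this
    rw [Perm.mul_apply, hβfix, hDval]
    by_cases h1 : B₁.length = 1
    · exact ⟨0, Nat.zero_le _, by rw [(List.formPerm_eq_one_iff _ hB₁n).mpr h1.le]; rfl⟩
    · refine ⟨1, le_rfl, ?_⟩
      have h2 : 1 < B₁.length := by omega
      rw [← e2, List.formPerm_apply_lt_getElem B₁ hB₁n 0 h2, hB₁l.getElem h2]
      exact hget 1 (by omega)
  obtain ⟨s, hs, hA2⟩ := hA2
  refine not_solvable_of_shift hp3 he _ _ 0 full_trans (fun i => ha ▸ full_per i) ?_
    (i₁ := a - b + 1) (j₁ := a - b) (i₂ := 0) (j₂ := s) (by rw [hcpow, hcpow]; exact hA1)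
    (by rw [hcpow, hcpow]; exact hA2) ?_
  · have hord : orderOf (D * β⁻¹) ∣ p ^ e := by
      rw [← Perm.lcm_cycleType]
      apply Multiset.lcm_dvd.mpr
      intro x hx
      have hx' : x ∈ M := hct ▸ hx
      obtain ⟨i, -, hi, rfl⟩ := hM x hx'
      exact pow_dvd_pow p hi.le
    exact ⟨e, orderOf_dvd_iff_pow_eq_one.mp hord⟩
  · have h : ¬ p ∣ s + 1 := fun h => by have := Nat.le_of_dvd (by omega) h; omega
    rw [← ZMod.natCast_eq_zero_iff (s + 1) p] at h
    intro heq
    apply h
    push_cast at heq ⊢
    linear_combination -heq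

end Full

section Cycle

variable {a : ℕ} [NeZero a]

lemma natCast_ne {i j : ℕ} (hi : i < a) (hj : j < a) (h : i ≠ j) : (i : Fin a) ≠ (j : Fin a) := by
  intro he
  have := congrArg Fin.val he
  rw [Fin.val_natCast, Fin.val_natCast, Nat.mod_eq_of_lt hi, Nat.mod_eq_of_lt hj] at this
  exact h this

lemma full_step (i : ℕ) : (List.finRange a).formPerm (i : Fin a) = ((i + 1 : ℕ) : Fin a) := by
  rw [← pow_apply_get i, ← Perm.mul_apply, ← pow_succ', pow_apply_get]

lemma full_step_inv (i : ℕ) :
    (List.finRange a).formPerm⁻¹ ((i + 1 : ℕ) : Fin a) = (i : Fin a) :=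
  Perm.inv_eq_iff_eq.mpr (full_step i).symm

lemma full_step_inv_zero :
    (List.finRange a).formPerm⁻¹ ((0 : ℕ) : Fin a) = ((a - 1 : ℕ) : Fin a) := by
  apply Perm.inv_eq_iff_eq.mpr
  rw [full_step, Nat.sub_add_cancel (NeZero.pos a)]
  simp

lemma full_conj_swap (i j : ℕ) :
    (List.finRange a).formPerm * swap (i : Fin a) (j : Fin a) * (List.finRange a).formPerm⁻¹ =
      swap ((i + 1 : ℕ) : Fin a) ((j + 1 : ℕ) : Fin a) := by
  rw [← Equiv.swap_apply_apply, full_step, full_step]

lemma swap_commute {β : Type*} [DecidableEq β] {x y z w : β} (h1 : x ≠ z) (h2 : x ≠ w)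
    (h3 : y ≠ z) (h4 : y ≠ w) : Commute (swap x y) (swap z w) := by
  apply Perm.Disjoint.commute
  intro v
  by_cases hv : v = x ∨ v = y
  · right
    rcases hv with rfl | rfl
    · exact swap_apply_of_ne_of_ne h1 h2
    · exact swap_apply_of_ne_of_ne h3 h4
  · rw [not_or] at hv
    exact Or.inl (swap_apply_of_ne_of_ne hv.1 hv.2)

/-- A full cycle against conjugates of its inverse, with both parities of the conjugating element. -/
theorem exists_good_full {p e : ℕ} [Fact p.Prime] (hp3 : 3 ≤ p) (he : 1 ≤ e) (ha : a = p ^ e)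
    (h5 : 5 ≤ a) (ε : ℤˣ) :
    ∃ τ : Perm (Fin a), Perm.sign τ = ε ∧
      Good p (List.finRange a).formPerm (τ * (List.finRange a).formPerm⁻¹ * τ⁻¹) := by
  classical
  have hpp := (Fact.out : p.Prime)
  set c := (List.finRange a).formPerm with hc
  have hdp : ∀ τ : Perm (Fin a), ∃ k : ℕ, (τ * c⁻¹ * τ⁻¹) ^ (p ^ k) = 1 := by
    intro τ
    refine ⟨e, ?_⟩
    rw [conj_pow, inv_pow, ← ha]
    have := List.formPerm_pow_length_eq_one_of_nodup _ (List.nodup_finRange a)
    rw [List.length_finRange] at this
    rw [hc, this]; simp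
  have hprod : ∀ τ : Perm (Fin a), c * (τ * c⁻¹ * τ⁻¹) = c * τ * c⁻¹ * τ⁻¹ := fun τ => by
    simp only [mul_assoc]
  have hcast : ∀ (x : ℕ) {y : ℕ}, x = y → (x : Fin a) = (y : Fin a) := fun x y h => by rw [h]
  have hpa : (a : ZMod p) = 0 := by
    rw [ha, Nat.cast_pow, ZMod.natCast_self, zero_pow (by omega)]
  have ha1 : ((a - 1 : ℕ) : ZMod p) = -1 := by
    rw [Nat.cast_sub (by omega), hpa, Nat.cast_one, zero_sub]
  have ne := fun (i j : ℕ) (hi : i < a) (hj : j < a) (h : i ≠ j) => natCast_ne (a := a) hi hj h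
  rcases Int.units_eq_one_or ε with rfl | rfl
  · -- even
    by_cases hp5 : 5 ≤ p
    · set τ : Perm (Fin a) := swap ((0 : ℕ) : Fin a) ((1 : ℕ) : Fin a) *
        swap ((1 : ℕ) : Fin a) ((2 : ℕ) : Fin a) with hτ
      have n01 := ne 0 1 (by omega) (by omega) (by omega)
      have n02 := ne 0 2 (by omega) (by omega) (by omega)
      have n12 := ne 1 2 (by omega) (by omega) (by omega)
      have n13 := ne 1 3 (by omega) (by omega) (by omega)
      have n30 := ne 3 0 (by omega) (by omega) (by omega)
      have n32 := ne 3 2 (by omega) (by omega) (by omega)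
      have nl0 := ne (a - 1) 0 (by omega) (by omega) (by omega)
      have nl1 := ne (a - 1) 1 (by omega) (by omega) (by omega)
      have nl2 := ne (a - 1) 2 (by omega) (by omega) (by omega)
      refine ⟨τ, by rw [hτ, map_mul, Perm.sign_swap n01, Perm.sign_swap n12]; rfl, ?_, ?_⟩
      · rw [hprod]
        have h1 : c * τ * c⁻¹ * τ⁻¹ = swap ((1 : ℕ) : Fin a) ((3 : ℕ) : Fin a) *
            swap ((1 : ℕ) : Fin a) ((0 : ℕ) : Fin a) := by
          have e1 := full_conj_swap (a := a) 0 1
          have e2 := full_conj_swap (a := a) 1 2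
          rw [← hc] at e1 e2
          have e3 : swap ((1 : ℕ) : Fin a) ((2 : ℕ) : Fin a) * swap ((2 : ℕ) : Fin a) ((3 : ℕ) : Fin a) *
              swap ((1 : ℕ) : Fin a) ((2 : ℕ) : Fin a) = swap ((1 : ℕ) : Fin a) ((3 : ℕ) : Fin a) := by
            have := Equiv.swap_apply_apply (swap ((1 : ℕ) : Fin a) ((2 : ℕ) : Fin a))
              ((2 : ℕ) : Fin a) ((3 : ℕ) : Fin a)
            rw [swap_apply_right, swap_apply_of_ne_of_ne n13.symm n32, swap_inv] at this
            exact this.symm
          calc c * τ * c⁻¹ * τ⁻¹ = (c * swap ((0 : ℕ) : Fin a) ((1 : ℕ) : Fin a) * c⁻¹) *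
                (c * swap ((1 : ℕ) : Fin a) ((2 : ℕ) : Fin a) * c⁻¹) * τ⁻¹ := by
                rw [hτ]; group
            _ = swap ((1 : ℕ) : Fin a) ((2 : ℕ) : Fin a) * swap ((2 : ℕ) : Fin a) ((3 : ℕ) : Fin a) *
                swap ((1 : ℕ) : Fin a) ((2 : ℕ) : Fin a) * swap ((0 : ℕ) : Fin a) ((1 : ℕ) : Fin a) := by
                rw [e1, e2, hτ, mul_inv_rev, swap_inv, swap_inv]; simp only [mul_assoc]
            _ = _ := by rw [e3, swap_comm ((0 : ℕ) : Fin a)]
        rw [h1, (Perm.isThreeCycle_swap_mul_swap_same n13 n01.symm n30).orderOf]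
        exact not_ppow_of_prime hpp Nat.prime_three (by omega)
      · refine not_solvable_of_shift hp3 he _ _ 0 full_trans (fun i => ha ▸ full_per i) (hdp τ)
          (i₁ := 1) (j₁ := a - 1) (i₂ := 2) (j₂ := 1) ?_ ?_ ?_
        · rw [hc, pow_apply_get, pow_apply_get, ← hc, Perm.mul_apply, Perm.mul_apply]
          have h1 : τ⁻¹ ((1 : ℕ) : Fin a) = ((0 : ℕ) : Fin a) := by
            apply Perm.inv_eq_iff_eq.mpr
            rw [hτ, Perm.mul_apply, swap_apply_of_ne_of_ne n01 n02, swap_apply_left]
          rw [h1, hc, full_step_inv_zero, hτ, Perm.mul_apply, swap_apply_of_ne_of_ne nl1 nl2,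
            swap_apply_of_ne_of_ne nl0 nl1]
        · rw [hc, pow_apply_get, pow_apply_get, ← hc, Perm.mul_apply, Perm.mul_apply]
          have h1 : τ⁻¹ ((2 : ℕ) : Fin a) = ((1 : ℕ) : Fin a) := by
            apply Perm.inv_eq_iff_eq.mpr
            rw [hτ, Perm.mul_apply, swap_apply_left, swap_apply_of_ne_of_ne n02.symm n12.symm]
          rw [h1, hc, full_step_inv 0, hτ, Perm.mul_apply, swap_apply_of_ne_of_ne n01 n02,
            swap_apply_left]
        · rw [ha1]
          intro h
          have : (1 : ZMod p) = 0 := by push_cast at h; linear_combination -h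
          exact one_ne_zero this
    · -- `p = 3`, so `a ≥ 9`
      have ha9 : 9 ≤ a := by
        have hp3' : p = 3 := by
          have : p ≠ 4 := by rintro rfl; norm_num at hpp
          omega
        have : 2 ≤ e := by
          by_contra h
          have : e = 1 := by omega
          rw [ha, this, pow_one] at h5; omega
        calc 9 = 3 ^ 2 := by norm_num
          _ ≤ p ^ e := by rw [hp3']; exact Nat.pow_le_pow_right (by norm_num) this
          _ = a := ha.symm
      set τ : Perm (Fin a) := swap ((0 : ℕ) : Fin a) ((2 : ℕ) : Fin a) *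
        swap ((4 : ℕ) : Fin a) ((6 : ℕ) : Fin a) with hτ
      have n02 := ne 0 2 (by omega) (by omega) (by omega)
      have n46 := ne 4 6 (by omega) (by omega) (by omega)
      refine ⟨τ, by rw [hτ, map_mul, Perm.sign_swap n02, Perm.sign_swap n46]; rfl, ?_, ?_⟩
      · rw [hprod]
        have e1 := full_conj_swap (a := a) 0 2
        have e2 := full_conj_swap (a := a) 4 6
        rw [← hc] at e1 e2
        set A := swap ((0 + 1 : ℕ) : Fin a) ((2 + 1 : ℕ) : Fin a) with hA
        set B := swap ((4 + 1 : ℕ) : Fin a) ((6 + 1 : ℕ) : Fin a) with hB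
        set C := swap ((0 : ℕ) : Fin a) ((2 : ℕ) : Fin a) with hC
        set D := swap ((4 : ℕ) : Fin a) ((6 : ℕ) : Fin a) with hD
        have h1 : c * τ * c⁻¹ * τ⁻¹ = A * B * (D * C) := by
          rw [← e1, ← e2, hτ, mul_inv_rev, hC, hD, swap_inv, swap_inv]; group
        have k : ∀ (i j k l : ℕ), i < a → j < a → k < a → l < a →
            i ≠ k → i ≠ l → j ≠ k → j ≠ l →
            Commute (swap (i : Fin a) (j : Fin a)) (swap (k : Fin a) (l : Fin a)) :=
          fun i j k l hi hj hk hl h1 h2 h3 h4 => swap_commute (ne i k hi hk h1) (ne i l hi hl h2)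
            (ne j k hj hk h3) (ne j l hj hl h4)
        have cAB : Commute A B := k 1 3 5 7 (by omega) (by omega) (by omega) (by omega)
          (by omega) (by omega) (by omega) (by omega)
        have cDC : Commute D C := k 4 6 0 2 (by omega) (by omega) (by omega) (by omega)
          (by omega) (by omega) (by omega) (by omega)
        have cAC : Commute A C := k 1 3 0 2 (by omega) (by omega) (by omega) (by omega)
          (by omega) (by omega) (by omega) (by omega)
        have cAD : Commute A D := k 1 3 4 6 (by omega) (by omega) (by omega) (by omega)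
          (by omega) (by omega) (by omega) (by omega)
        have cBC : Commute B C := k 5 7 0 2 (by omega) (by omega) (by omega) (by omega)
          (by omega) (by omega) (by omega) (by omega)
        have cBD : Commute B D := k 5 7 4 6 (by omega) (by omega) (by omega) (by omega)
          (by omega) (by omega) (by omega) (by omega)
        have hord : orderOf (A * B * (D * C)) = 2 := by
          refine orderOf_eq_prime ?_ ?_
          · rw [((cAD.mul_right cAC).mul_left (cBD.mul_right cBC)).mul_pow, cAB.mul_pow, cDC.mul_pow]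
            simp [hA, hB, hC, hD, sq]
          · intro h
            have h2 := Perm.congr_fun h ((0 : ℕ) : Fin a)
            simp only [hA, hB, hC, hD, Perm.mul_apply, Perm.one_apply, swap_apply_left] at h2
            rw [swap_apply_of_ne_of_ne (ne 2 4 (by omega) (by omega) (by omega))
                (ne 2 6 (by omega) (by omega) (by omega)),
              swap_apply_of_ne_of_ne (ne 2 5 (by omega) (by omega) (by omega))
                (ne 2 7 (by omega) (by omega) (by omega)),
              swap_apply_of_ne_of_ne (ne 2 1 (by omega) (by omega) (by omega))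
                (ne 2 3 (by omega) (by omega) (by omega))] at h2
            exact n02 h2.symm
        rw [h1, hord]
        exact not_ppow_of_prime hpp Nat.prime_two (by omega)
      · refine not_solvable_of_shift hp3 he _ _ 0 full_trans (fun i => ha ▸ full_per i) (hdp τ)
          (i₁ := 2) (j₁ := a - 1) (i₂ := 1) (j₂ := 2) ?_ ?_ ?_
        · rw [hc, pow_apply_get, pow_apply_get, ← hc, Perm.mul_apply, Perm.mul_apply]
          have h1 : τ⁻¹ ((2 : ℕ) : Fin a) = ((0 : ℕ) : Fin a) := by
            apply Perm.inv_eq_iff_eq.mpr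
            rw [hτ, Perm.mul_apply,
              swap_apply_of_ne_of_ne (ne 0 4 (by omega) (by omega) (by omega))
                (ne 0 6 (by omega) (by omega) (by omega)), swap_apply_left]
          rw [h1, hc, full_step_inv_zero, hτ, Perm.mul_apply,
            swap_apply_of_ne_of_ne (ne (a - 1) 4 (by omega) (by omega) (by omega))
              (ne (a - 1) 6 (by omega) (by omega) (by omega)),
            swap_apply_of_ne_of_ne (ne (a - 1) 0 (by omega) (by omega) (by omega))
              (ne (a - 1) 2 (by omega) (by omega) (by omega))]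
        · rw [hc, pow_apply_get, pow_apply_get, ← hc, Perm.mul_apply, Perm.mul_apply]
          have h1 : τ⁻¹ ((1 : ℕ) : Fin a) = ((1 : ℕ) : Fin a) := by
            apply Perm.inv_eq_iff_eq.mpr
            rw [hτ, Perm.mul_apply,
              swap_apply_of_ne_of_ne (ne 1 4 (by omega) (by omega) (by omega))
                (ne 1 6 (by omega) (by omega) (by omega)),
              swap_apply_of_ne_of_ne (ne 1 0 (by omega) (by omega) (by omega))
                (ne 1 2 (by omega) (by omega) (by omega))]
          rw [h1, hc, full_step_inv 0, hτ, Perm.mul_apply,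
            swap_apply_of_ne_of_ne (ne 0 4 (by omega) (by omega) (by omega))
              (ne 0 6 (by omega) (by omega) (by omega)), swap_apply_left]
        · rw [ha1]
          intro h
          have h4 : ((4 : ℕ) : ZMod p) = 0 := by push_cast at h ⊢; linear_combination -h
          rw [ZMod.natCast_eq_zero_iff] at h4
          have := Nat.le_of_dvd (by norm_num) h4
          interval_cases p <;> first | omega | norm_num at hpp
  · -- odd
    set τ : Perm (Fin a) := swap ((0 : ℕ) : Fin a) ((2 : ℕ) : Fin a) with hτ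
    have n02 := ne 0 2 (by omega) (by omega) (by omega)
    refine ⟨τ, by rw [hτ, Perm.sign_swap n02], ?_, ?_⟩
    · rw [hprod]
      have e1 := full_conj_swap (a := a) 0 2
      rw [← hc, ← hτ] at e1
      have hord : orderOf (c * τ * c⁻¹ * τ⁻¹) = 2 := by
        rw [e1, hτ, swap_inv]
        refine orderOf_eq_prime ?_ ?_
        · rw [(swap_commute (ne 1 0 (by omega) (by omega) (by omega))
            (ne 1 2 (by omega) (by omega) (by omega))
            (ne 3 0 (by omega) (by omega) (by omega))
            (ne 3 2 (by omega) (by omega) (by omega))).mul_pow]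
          simp [sq]
        · intro h
          have h2 := Perm.congr_fun h ((0 : ℕ) : Fin a)
          rw [Perm.mul_apply, Perm.one_apply, swap_apply_left,
            swap_apply_of_ne_of_ne (ne 2 1 (by omega) (by omega) (by omega))
              (ne 2 3 (by omega) (by omega) (by omega))] at h2
          exact n02 h2.symm
      rw [hord]
      exact not_ppow_of_prime hpp Nat.prime_two (by omega)
    · refine not_solvable_of_shift hp3 he _ _ 0 full_trans (fun i => ha ▸ full_per i) (hdp τ)
        (i₁ := 2) (j₁ := a - 1) (i₂ := 1) (j₂ := 2) ?_ ?_ ?_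
      · rw [hc, pow_apply_get, pow_apply_get, ← hc, Perm.mul_apply, Perm.mul_apply, hτ, swap_inv,
          swap_apply_right, hc, full_step_inv_zero,
          swap_apply_of_ne_of_ne (ne (a - 1) 0 (by omega) (by omega) (by omega))
            (ne (a - 1) 2 (by omega) (by omega) (by omega))]
      · rw [hc, pow_apply_get, pow_apply_get, ← hc, Perm.mul_apply, Perm.mul_apply, hτ, swap_inv,
          swap_apply_of_ne_of_ne (ne 1 0 (by omega) (by omega) (by omega))
            (ne 1 2 (by omega) (by omega) (by omega)), hc, full_step_inv 0, swap_apply_left]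
      · rw [ha1]
        intro h
        have h4 : ((4 : ℕ) : ZMod p) = 0 := by push_cast at h ⊢; linear_combination -h
        rw [ZMod.natCast_eq_zero_iff, show (4 : ℕ) = 2 ^ 2 by norm_num] at h4
        have := (Nat.prime_dvd_prime_iff_eq hpp Nat.prime_two).mp (hpp.dvd_of_dvd_pow h4)
        omega

end Cycle

end Cfsg.Agent.AltPPair
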