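/-
Lifting good pairs from a few moved points to the whole permutation group.
-/
import Mathlib
import Cfsg.Agent.AltPPair.Blocks

set_option autoImplicit false

namespace Cfsg.Agent.AltPPair

open Equiv

lemma Good.map {p : ℕ} {G H : Type*} [Group G] [Group H] (φ : G →* H)
    (hφ : Function.Injective φ) {x y : G} (h : Good p x y) : Good p (φ x) (φ y) := by
  refine ⟨?_, ?_⟩
  · rw [← map_mul, orderOf_injective φ hφ]; exact h.1
  · intro hs
    apply h.2
    rw [← Set.image_pair, ← MonoidHom.map_closure] at hs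
    exact Group.isSolvable_of_isSolvable_injective
      (f := (Subgroup.equivMapOfInjective (Subgroup.closure ({x, y} : Set G)) φ hφ).toMonoidHom)
      (Subgroup.equivMapOfInjective (Subgroup.closure ({x, y} : Set G)) φ hφ).injective

lemma Good.of_restrict {p : ℕ} (hp : p.Prime) {α β : Type*} (ι : β → α)
    (hι : Function.Injective ι) {u v : Perm α} {c d : Perm β}
    (hu : ∀ x, u (ι x) = ι (c x)) (hv : ∀ x, v (ι x) = ι (d x)) (h : Good p c d) :
    Good p u v := by
  let K : Subgroup (Perm α × Perm β) :=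
    { carrier := {g | ∀ x, g.1 (ι x) = ι (g.2 x)}
      one_mem' := fun x => rfl
      mul_mem' := fun {a b} ha hb x => by
        simp only [Prod.fst_mul, Prod.snd_mul, Perm.mul_apply]
        rw [hb x, ha (b.2 x)]
      inv_mem' := fun {a} ha x => by
        simp only [Prod.fst_inv, Prod.snd_inv]
        apply Perm.inv_eq_iff_eq.mpr
        rw [ha, Perm.coe_inv, Equiv.apply_symm_apply] }
  let gu : K := ⟨(u, c), hu⟩
  let gv : K := ⟨(v, d), hv⟩
  let f₁ : K →* Perm α := (MonoidHom.fst _ _).comp K.subtype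
  let f₂ : K →* Perm β := (MonoidHom.snd _ _).comp K.subtype
  have hinj : Function.Injective f₁ := by
    intro a b hab
    have h1 : a.1.1 = b.1.1 := hab
    apply Subtype.ext
    refine Prod.ext h1 (Equiv.ext fun x => hι ?_)
    rw [← a.2 x, ← b.2 x, h1]
  have hmap : f₁ gu = u ∧ f₁ gv = v ∧ f₂ gu = c ∧ f₂ gv = d := ⟨rfl, rfl, rfl, rfl⟩
  have hgood : Good p gu gv := by
    refine ⟨?_, ?_⟩
    · rintro ⟨k, hk⟩
      apply h.1
      have h1 : orderOf (c * d) ∣ p ^ k := by
        rw [← hk]; exact orderOf_map_dvd f₂ (gu * gv)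
      obtain ⟨j, -, hj⟩ := (Nat.dvd_prime_pow hp).mp h1
      exact ⟨j, hj⟩
    · intro hs
      apply h.2
      have h1 : Group.IsSolvable ↥((Subgroup.closure ({gu, gv} : Set K)).map f₂) :=
        @Group.isSolvable_of_surjective _ _ _ _ _ (f₂.subgroupMap_surjective _) hs
      rwa [MonoidHom.map_closure, Set.image_pair] at h1
  exact hgood.map f₁ hinj

/-- Conjugation is an injective homomorphism. -/
lemma Good.conj {p : ℕ} {G : Type*} [Group G] (g : G) {x y : G} (h : Good p x y) :
    Good p (g * x * g⁻¹) (g * y * g⁻¹) :=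
  h.map (MulAut.conj g).toMonoidHom (MulAut.conj g).injective

/-- A permutation of `Fin n` whose cycle type splits off that of `c` is conjugate to an extension
of `c`. -/
lemma exists_decomp {n m : ℕ} (hmn : m ≤ n) (u : Perm (Fin n)) (c : Perm (Fin m))
    (hle : c.cycleType ≤ u.cycleType) (hsum : u.cycleType.sum + m ≤ c.cycleType.sum + n) :
    ∃ (π v : Perm (Fin n)), u = π * v * π⁻¹ ∧
      (∀ x : Fin m, v (Fin.castLE hmn x) = Fin.castLE hmn (c x)) := by
  classical
  let f : Fin m ≃ {x : Fin n // x.val < m} :=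
    { toFun := fun i => ⟨Fin.castLE hmn i, i.isLt⟩
      invFun := fun x => ⟨x.1.val, x.2⟩
      left_inv := fun i => rfl
      right_inv := fun x => rfl }
  let g : Fin (n - m) ≃ {x : Fin n // ¬ x.val < m} :=
    { toFun := fun i => ⟨⟨i.val + m, by omega⟩, by simp⟩
      invFun := fun x => ⟨x.1.val - m, by have := x.2; have := x.1.isLt; omega⟩
      left_inv := fun i => by ext; simp
      right_inv := fun x => by
        ext
        have := x.2
        simp
        omega }
  obtain ⟨M, hM⟩ := Multiset.le_iff_exists_add.mp hle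
  obtain ⟨u₀, hu₀⟩ : ∃ u₀ : Perm (Fin (n - m)), u₀.cycleType = M := by
    rw [Perm.exists_with_cycleType_iff]
    refine ⟨?_, fun x hx => Perm.two_le_of_mem_cycleType (σ := u) (hM ▸ Multiset.mem_add.mpr (Or.inr hx))⟩
    rw [hM, Multiset.sum_add] at hsum
    simp only [Fintype.card_fin]
    omega
  set v := c.extendDomain f * u₀.extendDomain g with hv
  have hdisj : Perm.Disjoint (c.extendDomain f) (u₀.extendDomain g) := by
    intro x
    by_cases hx : x.val < m
    · exact Or.inr (Perm.extendDomain_apply_not_subtype _ _ (not_not.mpr hx))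
    · exact Or.inl (Perm.extendDomain_apply_not_subtype _ _ hx)
  have hct : v.cycleType = u.cycleType := by
    rw [hv, hdisj.cycleType_mul, Perm.cycleType_extendDomain, Perm.cycleType_extendDomain, hu₀, hM]
  obtain ⟨π, hπ⟩ := isConj_iff.mp (Perm.isConj_iff_cycleType_eq.mpr hct)
  refine ⟨π, v, hπ.symm, fun x => ?_⟩
  rw [hv, Perm.mul_apply, Perm.extendDomain_apply_not_subtype u₀ g
    (show ¬¬(Fin.castLE hmn x).val < m from not_not.mpr x.isLt)]
  exact Perm.extendDomain_apply_image c f x

/-- Good pairs on `m` points give good pairs on `n` points, controlling the parity. -/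
lemma lift {p n m : ℕ} (hp : p.Prime) (hmn : m ≤ n) (u w : Perm (Fin n)) (c d : Perm (Fin m))
    (hcu : c.cycleType ≤ u.cycleType) (hsu : u.cycleType.sum + m ≤ c.cycleType.sum + n)
    (hdw : d.cycleType ≤ w.cycleType) (hsw : w.cycleType.sum + m ≤ d.cycleType.sum + n) :
    ∃ ε : ℤˣ, ∀ τ : Perm (Fin m), Good p c (τ * d * τ⁻¹) →
      ∃ σ : Perm (Fin n), Perm.sign σ = ε * Perm.sign τ ∧ Good p u (σ * w * σ⁻¹) := by
  classical
  obtain ⟨π, v, hu, hv⟩ := exists_decomp hmn u c hcu hsu
  obtain ⟨π', v', hw, hv'⟩ := exists_decomp hmn w d hdw hsw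
  let f : Fin m ≃ {x : Fin n // x.val < m} :=
    { toFun := fun i => ⟨Fin.castLE hmn i, i.isLt⟩
      invFun := fun x => ⟨x.1.val, x.2⟩
      left_inv := fun i => rfl
      right_inv := fun x => rfl }
  refine ⟨Perm.sign π * Perm.sign π', fun τ hgood => ?_⟩
  set T := τ.extendDomain f with hT
  have hTx : ∀ x : Fin m, T (Fin.castLE hmn x) = Fin.castLE hmn (τ x) :=
    fun x => Perm.extendDomain_apply_image τ f x
  refine ⟨π * T * π'⁻¹, ?_, ?_⟩
  · rw [map_mul, map_mul, hT, Perm.sign_extendDomain, Perm.sign_inv]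
    exact mul_right_comm _ _ _
  · have h1 : π * T * π'⁻¹ * w * (π * T * π'⁻¹)⁻¹ = π * (T * v' * T⁻¹) * π⁻¹ := by
      rw [hw]; group
    rw [h1, hu]
    refine (Good.of_restrict hp (Fin.castLE hmn) (Fin.castLE_injective hmn) hv ?_ hgood).conj π
    intro x
    have h2 : T⁻¹ (Fin.castLE hmn x) = Fin.castLE hmn (τ⁻¹ x) := by
      apply Perm.inv_eq_iff_eq.mpr
      rw [hTx, Perm.coe_inv, Equiv.apply_symm_apply]
    simp only [Perm.mul_apply]
    rw [h2, hv', hTx]

/-- A group containing `x` of order 2 and `y` of order 3 with product of order 5 is not solvable. -/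
lemma not_solvable_of_triple {G : Type*} [Group G] (H : Subgroup G) {x y : G} (hx : x ∈ H)
    (hy : y ∈ H) (h2 : x ^ 2 = 1) (h3 : y ^ 3 = 1) (h5 : (x * y) ^ 5 = 1) (hne : x ≠ 1) :
    ¬ Group.IsSolvable ↥H := by
  intro hs
  set X : H := ⟨x, hx⟩ with hX
  set Y : H := ⟨y, hy⟩ with hY
  have key : ∀ k, X ∈ derivedSeries H k ∧ Y ∈ derivedSeries H k := by
    intro k
    induction k with
    | zero => simp [derivedSeries_zero]
    | succ k ih =>
      set D := derivedSeries H k
      have hsub : ∀ z : D, ((z : H) ∈ derivedSeries H (k + 1)) ↔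
          Abelianization.of z = 1 := by
        intro z
        rw [← MonoidHom.mem_ker, Abelianization.ker_of, derivedSeries_succ]
        have : ⁅derivedSeries H k, derivedSeries H k⁆ = (commutator D).map D.subtype := by
          rw [Subgroup.map_subtype_commutator]
        rw [this]
        exact Subgroup.mem_map_iff_mem D.subtype_injective
      let a := Abelianization.of (⟨X, ih.1⟩ : D)
      let b := Abelianization.of (⟨Y, ih.2⟩ : D)
      have ha : a ^ 2 = 1 := by
        rw [← map_pow, show (⟨X, ih.1⟩ : D) ^ 2 = 1 from Subtype.ext (Subtype.ext h2), map_one]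
      have hb : b ^ 3 = 1 := by
        rw [← map_pow, show (⟨Y, ih.2⟩ : D) ^ 3 = 1 from Subtype.ext (Subtype.ext h3), map_one]
      have hab : (a * b) ^ 5 = 1 := by
        rw [← map_mul, ← map_pow,
          show ((⟨X, ih.1⟩ : D) * ⟨Y, ih.2⟩) ^ 5 = 1 from Subtype.ext (Subtype.ext h5), map_one]
      have ha1 : a = 1 := by
        have h := congrArg (· ^ 3) hab
        simp only [one_pow, ← pow_mul, mul_pow] at h
        have e2 : b ^ (5 * 3) = 1 := by rw [mul_comm, pow_mul, hb, one_pow]
        have e1 : a ^ (5 * 3) = a := by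
          rw [show 5 * 3 = 2 * 7 + 1 by norm_num, pow_succ, pow_mul, ha, one_pow, one_mul]
        rwa [e1, e2, mul_one] at h
      have hb1 : b = 1 := by
        rw [ha1, one_mul] at hab
        calc b = (b ^ 3) ^ 2 / b ^ 5 := by rw [← pow_mul, pow_succ b 5]; simp
          _ = 1 := by rw [hb, hab]; simp
      exact ⟨(hsub ⟨X, ih.1⟩).mpr ha1, (hsub ⟨Y, ih.2⟩).mpr hb1⟩
  obtain ⟨k, hk⟩ := (Group.isSolvable_def H).mp hs
  have := (key k).1
  rw [hk, Subgroup.mem_bot] at this
  exact hne (congrArg Subtype.val this)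

section Small

private lemma ct_two {m : ℕ} (l₁ l₂ : List (Fin m)) (hn : (l₁ ++ l₂).Nodup)
    (h1 : l₁.length = 3) (h2 : l₂.length = 3) :
    (l₁.formPerm * l₂.formPerm).cycleType = {3, 3} := by
  have := cycleType_prod_blocks [l₁, l₂] (by simpa using hn)
  simp [h1, h2] at this
  rw [this]; rfl

private lemma ct_one {m : ℕ} (l : List (Fin m)) (hn : l.Nodup) (h1 : l.length = 3) :
    l.formPerm.cycleType = {3} := by
  have := cycleType_prod_blocks [l] (by simpa using hn)
  simpa [h1, Multiset.filter_singleton] using this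

set_option maxRecDepth 100000 in
lemma good_five : ∃ c d : Perm (Fin 5), c.cycleType = {3} ∧ d.cycleType = {3} ∧ Good 3 c d := by
  refine ⟨[(0 : Fin 5), 1, 2].formPerm, [(2 : Fin 5), 3, 4].formPerm,
    ct_one _ (by decide) rfl, ct_one _ (by decide) rfl, ?_, ?_⟩
  · have : Fact (Nat.Prime 5) := ⟨by norm_num⟩
    rw [orderOf_eq_prime (p := 5) (by decide) (by decide)]
    exact not_ppow_of_prime Nat.prime_three (by norm_num) (by norm_num)
  · have hc := Subgroup.subset_closure (k := ({[(0 : Fin 5), 1, 2].formPerm,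
      [(2 : Fin 5), 3, 4].formPerm} : Set (Perm (Fin 5)))) (Or.inl rfl)
    have hd := Subgroup.subset_closure (k := ({[(0 : Fin 5), 1, 2].formPerm,
      [(2 : Fin 5), 3, 4].formPerm} : Set (Perm (Fin 5)))) (Or.inr rfl)
    exact not_solvable_of_triple _ (mul_mem (mul_mem (mul_mem (mul_mem hc hc) hd) hc) hd) hc
      (by decide) (by decide) (by decide) (by decide)

set_option maxRecDepth 100000 in
lemma good_six_six : ∃ c d : Perm (Fin 6),
    c.cycleType = {3, 3} ∧ d.cycleType = {3, 3} ∧ Good 3 c d := by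
  refine ⟨[(0 : Fin 6), 1, 2].formPerm * [(3 : Fin 6), 4, 5].formPerm,
    [(0 : Fin 6), 1, 3].formPerm * [(2 : Fin 6), 5, 4].formPerm,
    ct_two _ _ (by decide) rfl rfl, ct_two _ _ (by decide) rfl rfl, ?_, ?_⟩
  · have : Fact (Nat.Prime 5) := ⟨by norm_num⟩
    rw [orderOf_eq_prime (p := 5) (by decide) (by decide)]
    exact not_ppow_of_prime Nat.prime_three (by norm_num) (by norm_num)
  · have hc := Subgroup.subset_closure (k := ({[(0 : Fin 6), 1, 2].formPerm *
      [(3 : Fin 6), 4, 5].formPerm, [(0 : Fin 6), 1, 3].formPerm * [(2 : Fin 6), 5, 4].formPerm} :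
        Set (Perm (Fin 6)))) (Or.inl rfl)
    have hd := Subgroup.subset_closure (k := ({[(0 : Fin 6), 1, 2].formPerm *
      [(3 : Fin 6), 4, 5].formPerm, [(0 : Fin 6), 1, 3].formPerm * [(2 : Fin 6), 5, 4].formPerm} :
        Set (Perm (Fin 6)))) (Or.inr rfl)
    exact not_solvable_of_triple _ (mul_mem (mul_mem (mul_mem (mul_mem hc hc) hd) hc) hd) hc
      (by decide) (by decide) (by decide) (by decide)

set_option maxRecDepth 100000 in
lemma good_six_one : ∃ c d : Perm (Fin 6),
    c.cycleType = {3, 3} ∧ d.cycleType = {3} ∧ Good 3 c d := by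
  refine ⟨[(0 : Fin 6), 1, 2].formPerm * [(3 : Fin 6), 4, 5].formPerm,
    [(2 : Fin 6), 3, 5].formPerm, ct_two _ _ (by decide) rfl rfl, ct_one _ (by decide) rfl, ?_, ?_⟩
  · have : Fact (Nat.Prime 5) := ⟨by norm_num⟩
    rw [orderOf_eq_prime (p := 5) (by decide) (by decide)]
    exact not_ppow_of_prime Nat.prime_three (by norm_num) (by norm_num)
  · have hc := Subgroup.subset_closure (k := ({[(0 : Fin 6), 1, 2].formPerm *
      [(3 : Fin 6), 4, 5].formPerm, [(2 : Fin 6), 3, 5].formPerm} : Set (Perm (Fin 6)))) (Or.inl rfl)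
    have hd := Subgroup.subset_closure (k := ({[(0 : Fin 6), 1, 2].formPerm *
      [(3 : Fin 6), 4, 5].formPerm, [(2 : Fin 6), 3, 5].formPerm} : Set (Perm (Fin 6)))) (Or.inr rfl)
    exact not_solvable_of_triple _
      (mul_mem (mul_mem (mul_mem (mul_mem (mul_mem hc hc) hd) hc) hc) hd) hc
      (by decide) (by decide) (by decide) (by decide)

end Small

end Cfsg.Agent.AltPPair
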