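/-
Two non-identity elements of `p`-power order in an alternating group have conjugates
generating a non-solvable group, with product of non-`p`-power order.
-/
import Mathlib
import Cfsg.Agent.AltPPair.Lift

set_option autoImplicit false

namespace Cfsg.Agent.AltPPair

open Equiv

/-- Powers of a number: a subfamily with prescribed sum. -/
lemma exists_sub_sum (p : ℕ) (hp : 1 < p) : ∀ (M : Multiset ℕ) (t : ℕ),
    (∀ b ∈ M, ∃ i, b = p ^ i ∧ b ∣ t) → t ≤ M.sum → ∃ M₀, M₀ ≤ M ∧ M₀.sum = t := by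
  intro M
  induction hcard : M.card using Nat.strong_induction_on generalizing M with
  | _ k ih =>
  intro t hM ht
  rcases Nat.eq_zero_or_pos t with rfl | ht0
  · exact ⟨0, Multiset.zero_le _, rfl⟩
  have hne : M ≠ 0 := by rintro rfl; simp at ht; omega
  obtain ⟨b₀, hb₀⟩ := Multiset.exists_mem_of_ne_zero hne
  obtain ⟨b, hbF, hmax⟩ := M.toFinset.exists_max_image id ⟨b₀, Multiset.mem_toFinset.mpr hb₀⟩
  rw [Multiset.mem_toFinset] at hbF
  obtain ⟨i, hbi, hbt⟩ := hM b hbF
  have hbt' : b ≤ t := Nat.le_of_dvd ht0 hbt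
  have hsum : b + (M.erase b).sum = M.sum := by rw [← Multiset.sum_cons, Multiset.cons_erase hbF]
  obtain ⟨M₁, hM₁, hs⟩ := ih (M.erase b).card
    (hcard ▸ Multiset.card_erase_lt_of_mem hbF) (M.erase b) rfl (t - b) (fun x hx => by
      obtain ⟨j, hxj, hxt⟩ := hM x (Multiset.mem_of_mem_erase hx)
      have hle : x ≤ b := hmax x (Multiset.mem_toFinset.mpr (Multiset.mem_of_mem_erase hx))
      refine ⟨j, hxj, Nat.dvd_sub hxt ?_⟩
      rw [hxj, hbi]
      apply pow_dvd_pow
      rw [hxj, hbi] at hle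
      exact (Nat.pow_le_pow_iff_right hp).mp hle) (by omega)
  exact ⟨b ::ₘ M₁, by rw [← Multiset.cons_erase hbF]; exact Multiset.cons_le_cons _ hM₁,
    by rw [Multiset.sum_cons, hs]; omega⟩

/-- Distinct powers of `p` with exponents in `[1, e)` are small. -/
lemma sum_add_one_lt {p e : ℕ} (hp : 3 ≤ p) (he : 1 ≤ e) (M : Multiset ℕ) (hnd : M.Nodup)
    (hM : ∀ b ∈ M, ∃ i, 1 ≤ i ∧ i < e ∧ b = p ^ i) : M.sum + 1 < p ^ e := by
  classical
  let S := (Finset.range e).filter (fun i => 1 ≤ i ∧ p ^ i ∈ M)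
  have h1 : M.sum = ∑ i ∈ S, p ^ i := by
    have hinj : Set.InjOn (fun i => p ^ i) (S : Set ℕ) :=
      fun a _ b _ h => Nat.pow_right_injective (by omega : 2 ≤ p) h
    have hS : S.image (fun i => p ^ i) = M.toFinset := by
      ext b
      simp only [S, Finset.mem_image, Finset.mem_filter, Finset.mem_range, Multiset.mem_toFinset]
      constructor
      · rintro ⟨i, ⟨_, _, h⟩, rfl⟩; exact h
      · intro hb
        obtain ⟨i, hi, hie, rfl⟩ := hM b hb
        exact ⟨i, ⟨hie, hi, hb⟩, rfl⟩
    rw [← Finset.sum_image (f := fun b => b) hinj, hS, Finset.sum, Multiset.toFinset_val,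
      hnd.dedup, Multiset.map_id']
  have h0 : (0 : ℕ) ∉ S := by simp [S]
  have h2 : p ^ 0 + M.sum < p ^ e := by
    rw [h1, ← Finset.sum_insert (f := fun i => p ^ i) h0]
    refine Nat.geomSum_lt (by omega) fun k hk => ?_
    rcases Finset.mem_insert.mp hk with rfl | hk
    · omega
    · exact Finset.mem_range.mp (Finset.mem_filter.mp hk).1
  rw [pow_zero] at h2
  omega

lemma cycleType_full {a : ℕ} (ha : 2 ≤ a) : (List.finRange a).formPerm.cycleType = {a} := by
  rw [(List.isCycle_formPerm (List.nodup_finRange a) (by simpa using ha)).cycleType,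
    List.support_formPerm_of_nodup _ (List.nodup_finRange a) (by
      intro x h
      have := congrArg List.length h
      simp at this; omega),
    List.toFinset_card_of_nodup (List.nodup_finRange a), List.length_finRange]

variable {n p : ℕ}

/-- The parts of the cycle type of an element of `p`-power order. -/
lemma parts (hp : p.Prime) {u : Perm (Fin n)} {k : ℕ} (hu : orderOf u = p ^ k) :
    ∀ b ∈ u.cycleType, ∃ i, 1 ≤ i ∧ b = p ^ i := by
  intro b hb
  obtain ⟨i, -, rfl⟩ := (Nat.dvd_prime_pow hp).mp (hu ▸ Perm.dvd_of_mem_cycleType hb)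
  refine ⟨i, ?_, rfl⟩
  by_contra h
  have : i = 0 := by omega
  subst this
  have := Perm.two_le_of_mem_cycleType hb
  simp at this

/-- The generic existence, without control of the parity, when the largest cycle of `u` is at
least as long as that of `w`. -/
lemma exists_good_of_max [Fact p.Prime] (hp3 : 3 ≤ p) (hn : 5 ≤ n) {u w : Perm (Fin n)}
    {e : ℕ} (he : 1 ≤ e) (hmem : p ^ e ∈ u.cycleType)
    (hpu : ∀ b ∈ u.cycleType, ∃ i, 1 ≤ i ∧ i ≤ e ∧ b = p ^ i)
    (hpw : ∀ b ∈ w.cycleType, ∃ i, 1 ≤ i ∧ i ≤ e ∧ b = p ^ i) (hw : w ≠ 1) :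
    ∃ σ : Perm (Fin n), Good p u (σ * w * σ⁻¹) := by
  have hpp := (Fact.out : p.Prime)
  have hun : u.cycleType.sum ≤ n := by simpa using u.sum_cycleType_le
  have hwn : w.cycleType.sum ≤ n := by simpa using w.sum_cycleType_le
  have hw0 : w.cycleType ≠ 0 := by simpa using hw
  have han : p ^ e ≤ n := le_trans (Multiset.le_sum_of_mem hmem) hun
  by_cases h5 : 5 ≤ p ^ e
  · -- one cycle of `u` against a part of `w`
    have : NeZero (p ^ e) := ⟨by omega⟩
    set c := (List.finRange (p ^ e)).formPerm with hc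
    have hcu : c.cycleType ≤ u.cycleType := by
      rw [hc, cycleType_full (by omega)]; exact Multiset.singleton_le.mpr hmem
    have hsu : u.cycleType.sum + p ^ e ≤ c.cycleType.sum + n := by
      rw [hc, cycleType_full (by omega), Multiset.sum_singleton]; omega
    obtain ⟨M, hMle, hMsum, hMne, hMn⟩ : ∃ M, M ≤ w.cycleType ∧ M.sum ≤ p ^ e ∧ M ≠ 0 ∧
        w.cycleType.sum + p ^ e ≤ M.sum + n := by
      by_cases hs : w.cycleType.sum ≤ p ^ e
      · exact ⟨w.cycleType, le_rfl, hs, hw0, by omega⟩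
      · obtain ⟨M, hMle, hMs⟩ := exists_sub_sum p hpp.one_lt w.cycleType (p ^ e) (fun b hb => by
          obtain ⟨i, -, hie, rfl⟩ := hpw b hb
          exact ⟨i, rfl, pow_dvd_pow p hie⟩) (by omega)
        exact ⟨M, hMle, hMs.le, by rintro rfl; simp at hMs; omega, by omega⟩
    by_cases hfull : p ^ e ∈ M
    · have hMa : M = {p ^ e} := by
        obtain ⟨M', rfl⟩ := Multiset.exists_cons_of_mem hfull
        rw [Multiset.sum_cons] at hMsum
        rcases eq_or_ne M' 0 with rfl | hM'
        · rfl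
        · obtain ⟨x, hx⟩ := Multiset.exists_mem_of_ne_zero hM'
          obtain ⟨i, -, -, rfl⟩ := hpw x (Multiset.mem_of_le hMle (Multiset.mem_cons_of_mem hx))
          have := Multiset.le_sum_of_mem hx
          have := Nat.one_le_pow i p hpp.pos
          omega
      obtain ⟨ε, hlift⟩ := lift hpp han u w c c⁻¹ hcu hsu
        (by rw [Perm.cycleType_inv, hc, cycleType_full (by omega), ← hMa]; exact hMle)
        (by rw [Perm.cycleType_inv, hc, cycleType_full (by omega), ← hMa]; exact hMn)
      obtain ⟨τ, -, hgood⟩ := exists_good_full hp3 he rfl h5 1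
      obtain ⟨σ, -, h⟩ := hlift τ hgood
      exact ⟨σ, h⟩
    · obtain ⟨d, hd, hgood⟩ := exists_good_proper (a := p ^ e) hp3 he rfl M hMne (fun b hb => by
          obtain ⟨i, h1, hie, rfl⟩ := hpw b (Multiset.mem_of_le hMle hb)
          exact ⟨i, h1, lt_of_le_of_ne hie (by rintro rfl; exact hfull hb), rfl⟩) hMsum
      obtain ⟨ε, hlift⟩ := lift hpp han u w c d hcu hsu (hd ▸ hMle) (hd ▸ hMn)
      obtain ⟨σ, -, h⟩ := hlift 1 (by simpa using hgood)
      exact ⟨σ, h⟩
  · -- three-cycles
    have hpe : p ≤ p ^ e := Nat.le_self_pow (by omega) p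
    have hp3' : p = 3 := by
      rcases Nat.lt_or_ge p 5 with h | h
      · have : p ≠ 4 := by rintro rfl; norm_num at hpp
        omega
      · omega
    subst hp3'
    have he1 : e = 1 := by
      by_contra h
      have := Nat.pow_le_pow_right (show 0 < 3 by norm_num) (show 2 ≤ e by omega)
      omega
    subst he1
    have key : ∀ x : Perm (Fin n), (∀ b ∈ x.cycleType, ∃ i, 1 ≤ i ∧ i ≤ 1 ∧ b = 3 ^ i) →
        x.cycleType = Multiset.replicate x.cycleType.card 3 := by
      intro x hx
      refine Multiset.eq_replicate.mpr ⟨rfl, fun b hb => ?_⟩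
      obtain ⟨i, h1, h2, rfl⟩ := hx b hb
      rw [show i = 1 by omega, pow_one]
    have hu := key u hpu
    have hwT := key w hpw
    set k := u.cycleType.card
    set l := w.cycleType.card
    have hk : u.cycleType.sum = 3 * k := by rw [hu, Multiset.sum_replicate, smul_eq_mul, mul_comm]
    have hl : w.cycleType.sum = 3 * l := by rw [hwT, Multiset.sum_replicate, smul_eq_mul, mul_comm]
    have hk1 : 1 ≤ k := Multiset.card_pos_iff_exists_mem.mpr ⟨_, hmem⟩
    have hl1 : 1 ≤ l := Multiset.card_pos.mpr hw0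
    have e1 : ({3} : Multiset ℕ) = Multiset.replicate 1 3 := rfl
    have e2 : ({3, 3} : Multiset ℕ) = Multiset.replicate 2 3 := rfl
    have hone : ∀ (m : ℕ) (x : Perm (Fin m)) (y : Perm (Fin n)) (j i : ℕ),
        x.cycleType = Multiset.replicate j 3 → y.cycleType = Multiset.replicate i 3 → j ≤ i →
        3 * i + m ≤ 3 * j + n →
        x.cycleType ≤ y.cycleType ∧ y.cycleType.sum + m ≤ x.cycleType.sum + n := by
      intro m x y j i hx hy hji h
      rw [hx, hy, Multiset.sum_replicate, Multiset.sum_replicate, smul_eq_mul, smul_eq_mul]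
      exact ⟨Multiset.replicate_mono 3 hji, by omega⟩
    by_cases h1 : 3 * k + 2 ≤ n ∧ 3 * l + 2 ≤ n
    · obtain ⟨c, d, hc, hd, hgood⟩ := good_five
      obtain ⟨a1, a2⟩ := hone 5 c u 1 k (hc.trans e1) hu hk1 (by omega)
      obtain ⟨b1, b2⟩ := hone 5 d w 1 l (hd.trans e1) hwT hl1 (by omega)
      obtain ⟨ε, hlift⟩ := lift hpp hn u w c d a1 a2 b1 b2
      obtain ⟨σ, -, h⟩ := hlift 1 (by simpa using hgood)
      exact ⟨σ, h⟩
    · have hn6 : 6 ≤ n := by omega
      by_cases hk2 : 2 ≤ k
      · by_cases hl2 : 2 ≤ l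
        · obtain ⟨c, d, hc, hd, hgood⟩ := good_six_six
          obtain ⟨a1, a2⟩ := hone 6 c u 2 k (hc.trans e2) hu hk2 (by omega)
          obtain ⟨b1, b2⟩ := hone 6 d w 2 l (hd.trans e2) hwT hl2 (by omega)
          obtain ⟨ε, hlift⟩ := lift hpp hn6 u w c d a1 a2 b1 b2
          obtain ⟨σ, -, h⟩ := hlift 1 (by simpa using hgood)
          exact ⟨σ, h⟩
        · obtain ⟨c, d, hc, hd, hgood⟩ := good_six_one
          obtain ⟨a1, a2⟩ := hone 6 c u 2 k (hc.trans e2) hu hk2 (by omega)
          obtain ⟨b1, b2⟩ := hone 6 d w 1 l (hd.trans e1) hwT hl1 (by omega)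
          obtain ⟨ε, hlift⟩ := lift hpp hn6 u w c d a1 a2 b1 b2
          obtain ⟨σ, -, h⟩ := hlift 1 (by simpa using hgood)
          exact ⟨σ, h⟩
      · -- then `w` has at least two cycles; exchange the roles
        obtain ⟨c, d, hc, hd, hgood⟩ := good_six_one
        obtain ⟨a1, a2⟩ := hone 6 c w 2 l (hc.trans e2) hwT (by omega) (by omega)
        obtain ⟨b1, b2⟩ := hone 6 d u 1 k (hd.trans e1) hu hk1 (by omega)
        obtain ⟨ε, hlift⟩ := lift hpp hn6 w u c d a1 a2 b1 b2
        obtain ⟨σ, -, h⟩ := hlift 1 (by simpa using hgood)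
        refine ⟨σ⁻¹, ?_⟩
        have := (h.symm).conj σ⁻¹
        simpa [mul_assoc] using this

/-- The exponent of the longest cycle. -/
lemma exists_max (hp : p.Prime) {u : Perm (Fin n)} (hu : u ≠ 1) {k : ℕ}
    (hk : orderOf u = p ^ k) :
    ∃ e, 1 ≤ e ∧ p ^ e ∈ u.cycleType ∧
      ∀ b ∈ u.cycleType, ∃ i, 1 ≤ i ∧ i ≤ e ∧ b = p ^ i := by
  have h0 : u.cycleType ≠ 0 := by simpa using hu
  obtain ⟨b₀, hb₀⟩ := Multiset.exists_mem_of_ne_zero h0
  obtain ⟨b, hb, hmax⟩ := u.cycleType.toFinset.exists_max_image id ⟨b₀, Multiset.mem_toFinset.mpr hb₀⟩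
  rw [Multiset.mem_toFinset] at hb
  obtain ⟨e, he, rfl⟩ := parts hp hk b hb
  refine ⟨e, he, hb, fun x hx => ?_⟩
  obtain ⟨i, hi, rfl⟩ := parts hp hk x hx
  exact ⟨i, hi, (Nat.pow_le_pow_iff_right hp.one_lt).mp (hmax _ (Multiset.mem_toFinset.mpr hx)), rfl⟩

/-- The result in the symmetric group, with an even conjugating element. -/
theorem exists_good_even [Fact p.Prime] (hp3 : 3 ≤ p) (hn : 5 ≤ n) {u w : Perm (Fin n)}
    (hu : u ≠ 1) (hw : w ≠ 1) (hku : ∃ k, orderOf u = p ^ k) (hkw : ∃ k, orderOf w = p ^ k) :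
    ∃ σ : Perm (Fin n), Perm.sign σ = 1 ∧ Good p u (σ * w * σ⁻¹) := by
  classical
  have hpp := (Fact.out : p.Prime)
  obtain ⟨k, hk⟩ := hku
  obtain ⟨k', hk'⟩ := hkw
  obtain ⟨e, he, hmem, hall⟩ := exists_max hpp hu hk
  obtain ⟨e', he', hmem', hall'⟩ := exists_max hpp hw hk'
  by_cases hcase : Subgroup.centralizer {u} ≤ alternatingGroup (Fin n) ∧
      Subgroup.centralizer {w} ≤ alternatingGroup (Fin n)
  · obtain ⟨⟨-, hcu, hndu⟩, ⟨-, hcw, hndw⟩⟩ :=
      And.intro (Perm.centralizer_le_alternating_iff.mp hcase.1)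
        (Perm.centralizer_le_alternating_iff.mp hcase.2)
    rw [Fintype.card_fin] at hcu hcw
    have hund : u.cycleType.Nodup := Multiset.nodup_iff_count_le_one.mpr hndu
    have hwnd : w.cycleType.Nodup := Multiset.nodup_iff_count_le_one.mpr hndw
    have hun : u.cycleType.sum ≤ n := by simpa using u.sum_cycleType_le
    have hwn : w.cycleType.sum ≤ n := by simpa using w.sum_cycleType_le
    have hee : e' = e := by
      rcases lt_trichotomy e' e with h | h | h
      · have := sum_add_one_lt hp3 he w.cycleType hwnd (fun b hb => by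
          obtain ⟨i, h1, h2, rfl⟩ := hall' b hb
          exact ⟨i, h1, by omega, rfl⟩)
        have := Multiset.le_sum_of_mem hmem
        omega
      · exact h
      · have := sum_add_one_lt hp3 he' u.cycleType hund (fun b hb => by
          obtain ⟨i, h1, h2, rfl⟩ := hall b hb
          exact ⟨i, h1, by omega, rfl⟩)
        have := Multiset.le_sum_of_mem hmem'
        omega
    subst hee
    have h5 : 5 ≤ p ^ e' := by
      by_contra h
      have hpe : p ≤ p ^ e' := Nat.le_self_pow (by omega) p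
      have he1 : e' = 1 := by
        by_contra h1
        have h2 := Nat.pow_le_pow_right hpp.pos (show 2 ≤ e' by omega)
        have h3 : 3 ^ 2 ≤ p ^ 2 := Nat.pow_le_pow_left hp3 2
        omega
      subst he1
      have := sum_add_one_lt hp3 (show 1 ≤ 2 by norm_num) u.cycleType hund (fun b hb => by
          obtain ⟨i, h1, h2, rfl⟩ := hall b hb
          exact ⟨i, h1, by omega, rfl⟩)
      have hsub : u.cycleType.sum = p := by
        have hrep : u.cycleType = Multiset.replicate u.cycleType.card p :=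
          Multiset.eq_replicate.mpr ⟨rfl, fun b hb => by
            obtain ⟨i, h1, h2, rfl⟩ := hall b hb
            rw [show i = 1 by omega, pow_one]⟩
        have hc1 : u.cycleType.card ≤ 1 := by
          have := hndu p
          rw [hrep, Multiset.count_replicate_self] at this
          exact this
        have hc2 : 1 ≤ u.cycleType.card := Multiset.card_pos_iff_exists_mem.mpr ⟨_, hmem⟩
        rw [hrep, Multiset.sum_replicate, show u.cycleType.card = 1 by omega, one_smul]
      rw [pow_one] at h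
      have : p ≠ 4 := by rintro rfl; norm_num at hpp
      omega
    have : NeZero (p ^ e') := ⟨by omega⟩
    set c := (List.finRange (p ^ e')).formPerm with hc
    have hct : c.cycleType = {p ^ e'} := cycleType_full (by omega)
    obtain ⟨ε, hlift⟩ := lift hpp (le_trans (Multiset.le_sum_of_mem hmem) hun) u w c c⁻¹
      (by rw [hct]; exact Multiset.singleton_le.mpr hmem)
      (by rw [hct, Multiset.sum_singleton]; omega)
      (by rw [Perm.cycleType_inv, hct]; exact Multiset.singleton_le.mpr hmem')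
      (by rw [Perm.cycleType_inv, hct, Multiset.sum_singleton]; omega)
    obtain ⟨τ, hτ, hgood⟩ := exists_good_full hp3 he' rfl h5 ε
    obtain ⟨σ, hσ, h⟩ := hlift τ hgood
    exact ⟨σ, by rw [hσ, hτ, Int.units_mul_self], h⟩
  · obtain ⟨σ, hσ⟩ : ∃ σ : Perm (Fin n), Good p u (σ * w * σ⁻¹) := by
      rcases le_total e' e with hle | hle
      · exact exists_good_of_max hp3 hn he hmem hall (fun b hb => by
          obtain ⟨i, h1, h2, rfl⟩ := hall' b hb
          exact ⟨i, h1, by omega, rfl⟩) hw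
      · obtain ⟨σ, hσ⟩ := exists_good_of_max hp3 hn he' hmem' hall' (fun b hb => by
          obtain ⟨i, h1, h2, rfl⟩ := hall b hb
          exact ⟨i, h1, by omega, rfl⟩) hu
        refine ⟨σ⁻¹, ?_⟩
        have := (hσ.symm).conj σ⁻¹
        simpa [mul_assoc] using this
    rcases Int.units_eq_one_or (Perm.sign σ) with hs | hs
    · exact ⟨σ, hs, hσ⟩
    rw [not_and_or, SetLike.not_le_iff_exists, SetLike.not_le_iff_exists] at hcase
    rcases hcase with ⟨h, hhu, hodd⟩ | ⟨h, hhw, hodd⟩
    · rw [Perm.mem_alternatingGroup] at hodd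
      rw [Subgroup.mem_centralizer_singleton_iff] at hhu
      refine ⟨h * σ, ?_, ?_⟩
      · rw [map_mul, hs, (Int.units_eq_one_or (Perm.sign h)).resolve_left hodd]; rfl
      · have h1 : h * u * h⁻¹ = u := mul_inv_eq_iff_eq_mul.mpr hhu
        have := hσ.conj h
        rw [h1] at this
        simpa [mul_assoc] using this
    · rw [Perm.mem_alternatingGroup] at hodd
      rw [Subgroup.mem_centralizer_singleton_iff] at hhw
      refine ⟨σ * h, ?_, ?_⟩
      · rw [map_mul, hs, (Int.units_eq_one_or (Perm.sign h)).resolve_left hodd]; rfl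
      · have h1 : σ * h * w * (σ * h)⁻¹ = σ * w * σ⁻¹ := by
          rw [mul_assoc σ h w, hhw]; group
        rwa [h1]

end Cfsg.Agent.AltPPair
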